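import Cfsg.Agent.Lib.Invol.Aschbacher.Last.Cube.Data
import Cfsg.Agent.Lib.Invol.Aschbacher.Last.Final

/-!
# The case of cubes does not occur
-/

set_option autoImplicit false

namespace Cfsg.Agent.Invol.Aschbacher.Last

universe u

/-- No counterexample has all fixed point sets of cube size. -/
theorem noCase_three : NoCase.{u} 3 := fun _ _ _ _ _ _ X h => X.false_of_isCube h

end Cfsg.Agent.Invol.Aschbacher.Last
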