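import Mathlib.GroupTheory.PGroup
import Mathlib.GroupTheory.QuotientGroup.Basic

/-!
# Small lemmas for the case of cubic fixed point sets

A 2-group fixes a non-trivial coset of a proper invariant subgroup of a 2-group, a bound for a map with fibres in
cosets, and inversion spread over the orbit of one element.
-/

set_option autoImplicit false
set_option linter.unusedSectionVars false

namespace Cfsg.Agent.Invol.Aschbacher.Last.Cube

universe u v w

variable {G : Type u} [Group G]

/-- A 2-group normalising two 2-groups fixes a non-trivial coset of the smaller in the larger. -/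
theorem exists_fixed_coset [Finite G] {T A B : Subgroup G} (hT : IsPGroup 2 T) (hA : IsPGroup 2 A) (hle : B ≤ A)
    (hne : B ≠ A) (hTA : ∀ t ∈ T, ∀ x ∈ A, t * x * t⁻¹ ∈ A) (hTB : ∀ t ∈ T, ∀ x ∈ B, t * x * t⁻¹ ∈ B) :
    ∃ c ∈ A, c ∉ B ∧ ∀ t ∈ T, c⁻¹ * (t * c * t⁻¹) ∈ B := by
  classical
  have : Fact (Nat.Prime 2) := ⟨Nat.prime_two⟩
  obtain ⟨C, hC⟩ : ∃ C : Subgroup A, C = B.subgroupOf A := ⟨_, rfl⟩
  have hmem : ∀ x : A, x ∈ C ↔ (x : G) ∈ B := fun x => by rw [hC, Subgroup.mem_subgroupOf]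
  let conjA : T → A → A := fun t x => ⟨(t : G) * x * (t : G)⁻¹, hTA t t.2 x x.2⟩
  let act : T → A ⧸ C → A ⧸ C := fun t => Quotient.map' (conjA t) fun x y h => by
    rw [QuotientGroup.leftRel_apply, hmem] at h ⊢
    show ((t : G) * x * (t : G)⁻¹)⁻¹ * ((t : G) * y * (t : G)⁻¹) ∈ B
    rw [show ((t : G) * x * (t : G)⁻¹)⁻¹ * ((t : G) * y * (t : G)⁻¹) =
      (t : G) * ((x : G)⁻¹ * y) * (t : G)⁻¹ by group]
    exact hTB t t.2 _ (by simpa using h)
  have hact : ∀ (t : T) (x : A), act t (QuotientGroup.mk x) = QuotientGroup.mk (conjA t x) := fun t x => rfl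
  let : MulAction T (A ⧸ C) :=
    { smul := act
      one_smul := fun x => QuotientGroup.induction_on x fun x => by
        show act 1 _ = _
        rw [hact]
        exact congrArg _ (Subtype.ext (by simp [conjA]))
      mul_smul := fun s t x => QuotientGroup.induction_on x fun x => by
        show act (s * t) _ = act s (act t _)
        rw [hact, hact, hact]
        exact congrArg _ (Subtype.ext (by simp [conjA, mul_assoc])) }
  have h1 : (QuotientGroup.mk (1 : A) : A ⧸ C) ∈ MulAction.fixedPoints T (A ⧸ C) := fun t => by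
    show act t _ = _
    rw [hact]
    exact congrArg _ (Subtype.ext (by simp [conjA]))
  obtain ⟨k, hk⟩ := hA.index C
  have hk' : Nat.card (A ⧸ C) = 2 ^ k := by rw [← hk, Subgroup.index_eq_card]
  have hk0 : k ≠ 0 := fun h => hne (le_antisymm hle fun x hx => (hmem ⟨x, hx⟩).1 (by
    rw [Subgroup.index_eq_one.1 (hk.trans (by rw [h, pow_zero]))]; exact Subgroup.mem_top _))
  obtain ⟨p, hp, hp1⟩ := hT.exists_fixed_point_of_prime_dvd_card_of_fixed_point _
    (hk' ▸ dvd_pow_self 2 hk0) h1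
  revert hp hp1
  refine QuotientGroup.induction_on p fun c hc hc1 => ⟨c, c.2, fun h => hc1 ?_, fun t ht => ?_⟩
  · exact (QuotientGroup.eq.2 (by rw [inv_one, one_mul]; exact (hmem c).2 h))
  · have h2 : act ⟨t, ht⟩ (QuotientGroup.mk c) = QuotientGroup.mk c := hc ⟨t, ht⟩
    rw [hact, eq_comm, QuotientGroup.eq, hmem] at h2
    simpa [conjA] using h2

/-- A map with fibres in cosets of a subgroup bounds the order of its source. -/
theorem card_le_mul_of_fibre [Finite G] {α : Type v} {β : Type w} [Finite β] (f : α → β) (val : α → G)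
    (K : Subgroup G) (hK : ∀ x y, f x = f y → (val x)⁻¹ * val y ∈ K)
    (hinj : ∀ x y, f x = f y → val x = val y → x = y) : Nat.card α ≤ Nat.card β * Nat.card K := by
  classical
  rcases isEmpty_or_nonempty α with _ | hne
  · simp
  let rep : β → α := fun b => Classical.epsilon fun x => f x = b
  have hrep : ∀ x, f (rep (f x)) = f x := fun x => Classical.epsilon_spec (p := fun y => f y = f x) ⟨x, rfl⟩
  rw [← Nat.card_prod]
  refine Nat.card_le_card_of_injective (fun x => (f x, (⟨_, hK (rep (f x)) x (hrep x)⟩ : K))) fun x y h => ?_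
  have h1 : f x = f y := congrArg Prod.fst h
  have h2 : (val (rep (f x)))⁻¹ * val x = (val (rep (f y)))⁻¹ * val y :=
    congrArg Subtype.val (congrArg Prod.snd h)
  rw [h1] at h2
  exact hinj x y h1 (mul_left_cancel h2)

/-- An element commuting with `J` and `E` which inverts `d` inverts the conjugates of `d` under `J` modulo `E`. -/
theorem inv_orbit {E J : Subgroup G} {d k x : G} (hE : ∀ e ∈ E, e * e = 1) (hkJ : ∀ j ∈ J, Commute k j)
    (hkE : ∀ e ∈ E, Commute k e) (hkd : k * d * k⁻¹ = d⁻¹) (hxE : ∀ e ∈ E, Commute e x)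
    (hx : ∃ j ∈ J, ∃ e ∈ E, x = j * d * j⁻¹ * e) : k * x * k⁻¹ = x⁻¹ := by
  obtain ⟨j, hj, e, he, rfl⟩ := hx
  have hei : e⁻¹ = e := inv_eq_of_mul_eq_one_right (hE e he)
  have hc : Commute e (j * d * j⁻¹) := by
    have h := (hxE e he).mul_right (Commute.refl e).inv_right
    rwa [mul_inv_cancel_right] at h
  have h1 : k * (j * d * j⁻¹ * e) * k⁻¹ = j * d⁻¹ * j⁻¹ * e := by
    calc k * (j * d * j⁻¹ * e) * k⁻¹ = k * j * d * j⁻¹ * (e * k⁻¹) := by group
      _ = j * k * d * j⁻¹ * (k⁻¹ * e) := by rw [(hkJ j hj).eq, ((hkE e he).inv_left.symm).eq]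
      _ = j * k * d * (j⁻¹ * k⁻¹) * e := by group
      _ = j * k * d * (k⁻¹ * j⁻¹) * e := by rw [((hkJ j hj).inv_inv.symm).eq]
      _ = j * (k * d * k⁻¹) * j⁻¹ * e := by group
      _ = _ := by rw [hkd]
  rw [h1, ← hc.eq, mul_inv_rev, hei]
  group

end Cfsg.Agent.Invol.Aschbacher.Last.Cube
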