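import Cfsg.Agent.Lib.Invol.Aschbacher.CoreTrivial
import Cfsg.Agent.Lib.Invol.Aschbacher.Last.LineBase
import Cfsg.Agent.Lib.Invol.Aschbacher.Last.Cube.Small

/-!
# An involution with a cube of other fixed points

The data of its group at a pair of fixed points: the regular group `Q`, the torus `J` of the pair, and an element `w`
of odd prime order centralising `J` whose fixed points in the cube form one line.  No subgroup strictly between the
members and `Q` is invariant under `J` and `w`.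
-/

set_option autoImplicit false
set_option linter.unusedSectionVars false

namespace Cfsg.Agent.Invol.Aschbacher.Last

open MulAction Subgroup

universe u

variable {G : Type u} [Group G] [Finite G] {Ω : Type u} [MulAction G Ω] {Z : Set G}

/-- Every involution outside `Z` fixes one more point than the cube of the number of members at a point, plus one. -/
def IsCube (Z : Set G) (Ω : Type u) [MulAction G Ω] : Prop :=
  ∀ u : G, orderOf u = 2 → u ∉ Z → ∀ a : Ω, u • a = a → (others u a).ncard = Nat.card (el Z a) ^ 3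

/-- The group of an involution at a pair of its fixed points. -/
structure CubeData (Z : Set G) (u : G) (a b : Ω) (Q J : Subgroup G) (w : G) : Prop where
  invol : orderOf u = 2
  outside : u ∉ Z
  fix_left : u • a = a
  fix_right : u • b = b
  ne : a ≠ b
  mem_Q : ∀ g, g ∈ Q ↔ g ∈ lgen Z u ∧ g • a = a ∧ ∃ k : ℕ, g ^ 2 ^ k = 1
  card_Q : Nat.card Q = Nat.card (el Z a) ^ 3
  move : ∀ x, u • x = x → x ≠ a → ∃ g ∈ Q, g • b = x
  free : ∀ g ∈ Q, g • b = b → g = 1
  comm_el : ∀ g ∈ Q, ∀ z ∈ zAt Z a, Commute z g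
  el_le : el Z a ≤ Q
  sq : ∀ g ∈ Q, g * g ∈ el Z a
  comm : ∀ g ∈ Q, ∀ h ∈ Q, g⁻¹ * h⁻¹ * g * h ∈ el Z a
  mem_el_of_sq : ∀ g ∈ Q, g * g = 1 → g ∈ el Z a
  J_le : J ≤ lgen Z u
  J_pair : ∀ j ∈ J, j • a = a ∧ j • b = b
  J_odd : Odd (Nat.card J)
  J_card : Nat.card J + 1 = Nat.card (el Z a)
  J_comm : ∀ j ∈ J, ∀ k ∈ cPair Z a b, Commute j k
  J_trans : ∀ z ∈ zAt Z a, ∀ t ∈ zAt Z a, ∃ j ∈ J, j * z * j⁻¹ = t
  J_free : ∀ j ∈ J, ∀ z ∈ zAt Z a, Commute j z → j = 1
  mid : ∀ A : Subgroup G, A ≤ Q → el Z a ≤ A → (∀ j ∈ J, ∀ x ∈ A, j * x * j⁻¹ ∈ A) → A ≠ Q →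
    ∀ c ∈ A, c ∉ el Z a → ∀ x ∈ A, x ∉ el Z a → ∃ j ∈ J, ∃ e ∈ el Z a, x = j * c * j⁻¹ * e
  w_lgen : w ∈ lgen Z u
  w_pair : w ∈ cPair Z a b
  w_order : ∃ p : ℕ, p.Prime ∧ Odd p ∧ orderOf w = p
  w_line : ∀ x, u • x = x → w • x = x → x = a ∨ x ∈ lineOff Z a b
  W_free : ∀ g ∈ lgen Z u, g ∈ cPair Z a b → g ≠ 1 → ∀ q ∈ Q, q⁻¹ * (g * q * g⁻¹) ∈ el Z a → q ∈ el Z a

namespace CubeData

variable {u : G} {a b : Ω} {Q J : Subgroup G} {w : G} (X : Setting G Ω Z) (D : CubeData Z u a b Q J w)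
include X D

theorem four_le : 4 ≤ Nat.card (el Z a) := by
  obtain ⟨x, hx, y, hy, hxy, hc⟩ := X.four a
  have hx1 : x ≠ 1 := fun h => X.one_notMem_zAt a (h ▸ hx)
  have hy1 : y ≠ 1 := fun h => X.one_notMem_zAt a (h ▸ hy)
  have hp : x * y ∈ zAt Z a := ⟨X.hyp.mul_mem hx.1 hy.1 hxy hc, by rw [mul_smul, hy.2, hx.2]⟩
  have hpx : x * y ≠ x := fun h => hy1 (mul_left_cancel (h.trans (mul_one x).symm))
  have hpy : x * y ≠ y := fun h => hx1 (mul_right_cancel (h.trans (one_mul y).symm))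
  rw [X.card_el]
  refine Nat.succ_le_succ (le_trans (le_of_eq ?_) (Set.ncard_le_ncard (s := {x * y, x, y})
    (by rintro t (rfl | rfl | rfl) <;> assumption) (Set.toFinite _)))
  rw [Set.ncard_insert_of_notMem (by simp [hpx, hpy]) (Set.toFinite _), Set.ncard_pair hxy]

theorem w_ne : w ≠ 1 := by
  obtain ⟨p, hp, -, hw⟩ := D.w_order
  intro h
  rw [h, orderOf_one] at hw
  exact hp.one_lt.ne hw

theorem fix_of_mem {g : G} (hg : g ∈ Q) : g • a = a := ((D.mem_Q g).1 hg).2.1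

theorem commute_u {g : G} (hg : g ∈ Q) : Commute g u := commute_of_mem_lgen ((D.mem_Q g).1 hg).1

theorem mem_cHull_of_mem {g : G} (hg : g ∈ Q) : g ∈ cHull Z a :=
  mem_cHull.2 ⟨D.fix_of_mem X hg, D.comm_el g hg⟩

theorem isPGroup : IsPGroup 2 Q := fun g => by
  obtain ⟨k, hk⟩ := ((D.mem_Q g).1 g.2).2.2
  exact ⟨k, Subtype.ext (by rw [SubmonoidClass.coe_pow]; exact hk)⟩

/-- An element fixing the point and commuting with the involution normalises `Q`. -/
theorem conj_mem {k : G} (hka : k • a = a) (hku : Commute k u) {g : G} (hg : g ∈ Q) : k * g * k⁻¹ ∈ Q := by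
  obtain ⟨h1, h2, n, hn⟩ := (D.mem_Q g).1 hg
  refine (D.mem_Q _).2 ⟨?_, by rw [mul_smul, mul_smul, inv_smul_eq_iff.2 hka.symm, h2, hka], n,
    by rw [conj_pow, hn, mul_one, mul_inv_cancel]⟩
  have hle : lgen Z u ≤ (lgen Z u).comap (MulAut.conj k).toMonoidHom := (Subgroup.closure_le _).2 fun z hz => by
    refine mem_lgen (X.hyp.conj_mem k z hz.1) ?_
    have h0 := hz.2.map (MulAut.conj k).toMonoidHom
    simp only [MulEquiv.coe_toMonoidHom, MulAut.conj_apply] at h0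
    rwa [hku.eq, mul_inv_cancel_right] at h0
  exact hle h1

theorem conj_el {k e : G} (hka : k • a = a) (he : e ∈ el Z a) : k * e * k⁻¹ ∈ el Z a := by
  rcases X.mem_el.1 he with rfl | h
  · rw [mul_one, mul_inv_cancel]
    exact one_mem _
  · exact X.mem_el.2 (Or.inr (hka ▸ X.hyp.zAt_conj h))

theorem J_fix {j : G} (hj : j ∈ J) : j • a = a := (D.J_pair j hj).1

theorem J_commute_u {j : G} (hj : j ∈ J) : Commute j u := commute_of_mem_lgen (D.J_le hj)

theorem J_commute_w {j : G} (hj : j ∈ J) : Commute j w := D.J_comm j hj w D.w_pair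

/-- An element of `J` commuting with a non-trivial element of `el Z a` is trivial. -/
theorem J_free_el {j e : G} (hj : j ∈ J) (he : e ∈ el Z a) (he1 : e ≠ 1) (h : Commute j e) : j = 1 :=
  D.J_free j hj e ((X.mem_el.1 he).resolve_left he1) h

/-- If two elements with squares in `el Z a` differ by an element of it, their squares are equal. -/
theorem sq_eq_of_coset {c d e : G} (he : e ∈ el Z a) (hc : Commute e c) (h : d = c * e) : d * d = c * c := by
  rw [h, show c * e * (c * e) = c * (e * c) * e by group, hc.eq, show c * (c * e) * e = c * c * (e * e) by group,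
    X.el_mul_self he, mul_one]

/-- No proper subgroup above `el Z a` is invariant under the torus and `w`. -/
theorem eq_top_of_invariant {A : Subgroup G} (hAQ : A ≤ Q) (hA : el Z a ≤ A)
    (hJ : ∀ j ∈ J, ∀ x ∈ A, j * x * j⁻¹ ∈ A) (hw : ∀ x ∈ A, w * x * w⁻¹ ∈ A) {c : G} (hc : c ∈ A)
    (hce : c ∉ el Z a) : A = Q := by
  by_contra hne
  have hwa : w • a = a := (mem_cPair.1 D.w_pair).1
  have hwc : w * c * w⁻¹ ∉ el Z a := fun h => hce (by
    have h1 := D.conj_el X (k := w⁻¹) (inv_smul_eq_iff.2 hwa.symm) h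
    rwa [show w⁻¹ * (w * c * w⁻¹) * w⁻¹⁻¹ = c by group] at h1)
  obtain ⟨j, hj, e, he, heq⟩ := D.mid A hAQ hA hJ hne c hc hce _ (hw c hc) hwc
  have hcQ := hAQ hc
  have hjc : Commute e (j * c * j⁻¹) :=
    X.el_comm (D.comm_el _ (D.conj_mem X (D.J_fix X hj) (D.J_commute_u X hj) hcQ)) he
  have hsq : w * (c * c) * w⁻¹ = j * (c * c) * j⁻¹ := by
    rw [show w * (c * c) * w⁻¹ = (w * c * w⁻¹) * (w * c * w⁻¹) by group, D.sq_eq_of_coset X he hjc heq]
    group
  have hwcc : w * (c * c) * w⁻¹ = c * c := by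
    rw [← (X.el_comm (mem_cPair.1 D.w_pair).2.2 (D.sq c hcQ)).eq, mul_inv_cancel_right]
  have hcc : c * c ≠ 1 := fun h => hce (D.mem_el_of_sq c hcQ h)
  have hj1 : j = 1 := D.J_free_el X hj (D.sq c hcQ) hcc (mul_inv_eq_iff_eq_mul.1 (hsq.symm.trans hwcc))
  rw [hj1, one_mul, inv_one, mul_one] at heq
  refine hce (D.W_free w D.w_lgen D.w_pair (D.w_ne X) c hcQ ?_)
  rw [heq, inv_mul_cancel_left]
  exact he

end CubeData

end Cfsg.Agent.Invol.Aschbacher.Last
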