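import Cfsg.Agent.Lib.Invol.Aschbacher.Last.Cube.Normal

/-!
# No involution fixes a cube of other points

With `c` in `Q` and `v` in `W` of the same square, the involution `y = c v` has in `Q W <u>` a centraliser of order at
least twice the cube, too large for its own group at the pair.
-/

set_option autoImplicit false
set_option linter.unusedSectionVars false

namespace Cfsg.Agent.Invol.Aschbacher.Last

open MulAction Subgroup

universe u

variable {G : Type u} [Group G] [Finite G] {Ω : Type u} [MulAction G Ω] {Z : Set G}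

namespace CubeData

variable {y : G} {a b : Ω} {Q J : Subgroup G} {w : G} (X : Setting G Ω Z) (D : CubeData Z y a b Q J w)
include X D

/-- A 2-group at the pair of exponent two modulo `el Z a` commuting with the involution lies in `Q` with the
involution, or has at most four times the square of the members. -/
theorem card_le_or (hc : IsCube Z Ω) {Y : Subgroup G} (hY : ∀ g ∈ Y, g ∈ cHull Z a ∧ Commute g y)
    (hsq : ∀ g ∈ Y, g * g ∈ el Z a) (hyY : y ∈ Y) :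
    (∀ g ∈ Y, g ∈ Q ∨ g * y ∈ Q) ∨ Nat.card Y ≤ 4 * (Nat.card (el Z a) * Nat.card (el Z a)) := by
  classical
  obtain ⟨P, W, M⟩ := D.exists_member X hc
  have hy := D.invol
  have hyy := mul_self_of_orderOf_two hy
  have hconj : ∀ g ∈ Y, ∀ r ∈ Q, g * r * g⁻¹ ∈ Q := fun g hg r hr =>
    D.conj_mem X (mem_cHull.1 (hY g hg).1).1 (hY g hg).2 hr
  obtain ⟨K, hK⟩ : ∃ K : Subgroup G, ∀ k, k ∈ K ↔ ∃ r ∈ Q, ∃ g ∈ Y, k = r * g ∧ k • b = b := by
    refine ⟨{ carrier := {k | ∃ r ∈ Q, ∃ g ∈ Y, k = r * g ∧ k • b = b}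
              one_mem' := ⟨1, one_mem Q, 1, one_mem Y, (one_mul 1).symm, one_smul _ _⟩
              mul_mem' := ?mul
              inv_mem' := ?inv }, fun k => Iff.rfl⟩
    case mul =>
      rintro k k' ⟨r, hr, g, hg, rfl, hb⟩ ⟨r', hr', g', hg', rfl, hb'⟩
      exact ⟨r * (g * r' * g⁻¹), mul_mem hr (hconj g hg r' hr'), g * g', mul_mem hg hg', by group,
        by rw [mul_smul, hb', hb]⟩
    case inv =>
      rintro k ⟨r, hr, g, hg, rfl, hb⟩
      exact ⟨g⁻¹ * r⁻¹ * g⁻¹⁻¹, hconj _ (inv_mem hg) _ (inv_mem hr), g⁻¹, inv_mem hg, by group,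
        inv_smul_eq_iff.2 hb.symm⟩
  have hKsq : ∀ k ∈ K, k * k = 1 := fun k hk => by
    obtain ⟨r, hr, g, hg, rfl, hb⟩ := (hK k).1 hk
    refine D.free _ ?_ (by rw [mul_smul, hb, hb])
    rw [show r * g * (r * g) = r * (g * r * g⁻¹) * (g * g) by group]
    exact mul_mem (mul_mem hr (hconj g hg r hr)) (D.el_le (hsq g hg))
  have hKp : ∀ k ∈ K, k ∈ cPair Z a b ∧ Commute k y := fun k hk => by
    obtain ⟨r, hr, g, hg, rfl, hb⟩ := (hK k).1 hk
    have h1 := mem_cHull.1 (mul_mem (D.mem_cHull_of_mem X hr) (hY g hg).1)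
    exact ⟨mem_cPair.2 ⟨h1.1, hb, h1.2⟩, (D.commute_u X hr).mul_left (hY g hg).2⟩
  have hKfix : ∀ k ∈ K, k • a = a ∧ ∀ r ∈ Q, k * r * k⁻¹ ∈ Q := fun k hk =>
    ⟨(mem_cPair.1 (hKp k hk).1).1, fun r hr => D.conj_mem X (mem_cPair.1 (hKp k hk).1).1 (hKp k hk).2 hr⟩
  have hdec : ∀ g ∈ Y, ∃ r ∈ Q, ∃ k ∈ K, g = r * k := fun g hg => by
    obtain ⟨hga, hgy⟩ := hY g hg
    obtain ⟨r, hr, hrb⟩ := D.move (g • b) (by rw [← mul_smul, ← hgy.eq, mul_smul, D.fix_right])
      fun h => D.ne (MulAction.injective g ((mem_cHull.1 hga).1.trans h.symm))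
    exact ⟨r, hr, r⁻¹ * g, (hK _).2 ⟨r⁻¹, inv_mem hr, g, hg, rfl, by rw [mul_smul, ← hrb, inv_smul_smul]⟩,
      (mul_inv_cancel_left r g).symm⟩
  by_cases hall : ∀ k ∈ K, k = 1 ∨ k = y
  · refine Or.inl fun g hg => ?_
    obtain ⟨r, hr, k, hk, rfl⟩ := hdec g hg
    rcases hall k hk with rfl | rfl
    · exact Or.inl (by rwa [mul_one])
    · exact Or.inr (by rwa [mul_assoc, hyy, mul_one])
  push Not at hall
  obtain ⟨k₁, hk₁, hk₁1, hk₁y⟩ := hall
  refine Or.inr ?_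
  have hyK : y ∈ K := (hK y).2 ⟨1, one_mem Q, y, hyY, (one_mul y).symm, D.fix_right⟩
  have hq := D.four_le X
  obtain ⟨c, hcQ, hce, hcK⟩ := Cube.exists_fixed_coset (T := K) (A := Q) (B := el Z a)
    (fun k => ⟨1, Subtype.ext (by rw [pow_one, pow_two]; exact hKsq k k.2)⟩) (D.isPGroup X) D.el_le
    (fun h => by
      have h1 := D.card_Q
      rw [← h] at h1
      exact absurd h1 (lt_self_pow₀ (by omega) (by omega)).ne)
    (fun k hk => (hKfix k hk).2) (fun k hk e he => D.conj_el X (hKfix k hk).1 he)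
  -- the part of `Q` moved inside `el Z a` by one element
  have hpart : ∀ k ∈ K, k ≠ 1 → k ≠ y → ∃ A : Subgroup G,
      (∀ r, r ∈ A ↔ r ∈ Q ∧ r⁻¹ * (k * r * k⁻¹) ∈ el Z a) ∧
      Nat.card A ≤ Nat.card (el Z a) * Nat.card (el Z a) ∧ k * c * k⁻¹ = c⁻¹ := by
    intro k hk hk1 hky
    obtain ⟨hka, hkQ⟩ := hKfix k hk
    obtain ⟨A, hA⟩ : ∃ A : Subgroup G, ∀ r, r ∈ A ↔ r ∈ Q ∧ r⁻¹ * (k * r * k⁻¹) ∈ el Z a := by
      refine ⟨{ carrier := {r | r ∈ Q ∧ r⁻¹ * (k * r * k⁻¹) ∈ el Z a}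
                one_mem' := ⟨one_mem Q, ?one⟩
                mul_mem' := ?mul
                inv_mem' := ?inv }, fun g => Iff.rfl⟩
      case one => simp [one_mem]
      case mul =>
        rintro r s ⟨hr, h⟩ ⟨hs, h'⟩
        refine ⟨mul_mem hr hs, ?_⟩
        rw [show (r * s)⁻¹ * (k * (r * s) * k⁻¹) = s⁻¹ * (r⁻¹ * (k * r * k⁻¹)) * (k * s * k⁻¹) by group,
          ((X.el_comm (D.comm_el _ (inv_mem hs)) h).symm).eq, mul_assoc]
        exact mul_mem h h'
      case inv =>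
        rintro r ⟨hr, h⟩
        refine ⟨inv_mem hr, ?_⟩
        rw [show r⁻¹⁻¹ * (k * r⁻¹ * k⁻¹) = r * (r⁻¹ * (k * r * k⁻¹))⁻¹ * r⁻¹ by group,
          ((X.el_comm (D.comm_el _ hr) (inv_mem h)).symm).eq, mul_inv_cancel_right]
        exact inv_mem h
    have helA : el Z a ≤ A := fun e he => (hA e).2 ⟨D.el_le he, mul_mem (inv_mem he) (D.conj_el X hka he)⟩
    have hne : A ≠ Q := fun h => by
      rcases M.eq_one_or_self_of_trivial X D hc ⟨1, by rw [pow_one, pow_two]; exact hKsq k hk⟩ (hKp k hk).1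
        (hKp k hk).2 (fun r hr => ((hA r).1 (h.symm ▸ hr)).2) with h1 | h1
      · exact hk1 h1
      · exact hky h1
    have hJA : ∀ j ∈ J, ∀ r ∈ A, j * r * j⁻¹ ∈ A := fun j hj r hr => by
      refine (hA _).2 ⟨D.conj_mem X (D.J_fix X hj) (D.J_commute_u X hj) ((hA r).1 hr).1, ?_⟩
      rw [show (j * r * j⁻¹)⁻¹ * (k * (j * r * j⁻¹) * k⁻¹) = j * r⁻¹ * j⁻¹ * ((k * j) * r * (k * j)⁻¹) by group,
        ← (D.J_comm j hj k (hKp k hk).1).eq,
        show j * r⁻¹ * j⁻¹ * ((j * k) * r * (j * k)⁻¹) = j * (r⁻¹ * (k * r * k⁻¹)) * j⁻¹ by group]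
      exact D.conj_el X (D.J_fix X hj) ((hA r).1 hr).2
    have hcA : c ∈ A := (hA c).2 ⟨hcQ, hcK k hk⟩
    have horb := D.mid A (fun r hr => ((hA r).1 hr).1) helA hJA hne c hcA hce
    refine ⟨A, hA, ?_, ?_⟩
    · choose j hj e he hje using horb
      let f : A → Option J × el Z a := fun x => if h : (x : G) ∈ el Z a then (none, ⟨x, h⟩) else
        (some ⟨j x x.2 h, hj x x.2 h⟩, ⟨e x x.2 h, he x x.2 h⟩)
      refine (Nat.card_le_card_of_injective f ?_).trans ?_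
      · intro x x' h
        by_cases h1 : (x : G) ∈ el Z a <;> by_cases h2 : (x' : G) ∈ el Z a <;>
          simp only [f, h1, h2, dite_true, dite_false, Prod.mk.injEq, Subtype.mk.injEq, reduceCtorEq, false_and,
            Option.some.injEq, true_and] at h
        · exact Subtype.ext h
        · exact Subtype.ext (by rw [hje x x.2 h1, hje x' x'.2 h2, h.1, h.2])
      · rw [Nat.card_prod, Finite.card_option, D.J_card]
    · obtain ⟨x, hx, hxA⟩ : ∃ x ∈ Q, x ∉ A := by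
        by_contra h
        push Not at h
        exact hne (le_antisymm (fun r hr => ((hA r).1 hr).1) h)
      obtain ⟨h, hh⟩ : ∃ h, h = x⁻¹ * (k * x * k⁻¹) := ⟨_, rfl⟩
      have hhQ : h ∈ Q := hh ▸ mul_mem (inv_mem hx) (hkQ x hx)
      have hki : k⁻¹ = k := inv_eq_of_mul_eq_one_right (hKsq k hk)
      have hinv : k * h * k⁻¹ = h⁻¹ := by
        rw [hh, hki]
        calc k * (x⁻¹ * (k * x * k)) * k = k * x⁻¹ * k * x * (k * k) := by group
          _ = (k * x⁻¹ * k⁻¹) * x := by rw [hKsq k hk, mul_one, hki]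
          _ = _ := by simp [mul_assoc, hki]
      have hhA : h ∈ A := (hA h).2 ⟨hhQ, by
        rw [hinv, ← mul_inv_rev]
        exact inv_mem (D.sq h hhQ)⟩
      have hhe : h ∉ el Z a := fun e => hxA ((hA x).2 ⟨hx, hh ▸ e⟩)
      exact Cube.inv_orbit (fun e he => X.el_mul_self he) (fun j hj => (D.J_comm j hj k (hKp k hk).1).symm)
        (fun e he => (X.el_comm (mem_cPair.1 (hKp k hk).1).2.2 he).symm) hinv
        (fun e he => X.el_comm (D.comm_el c hcQ) he)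
        (D.mid A (fun r hr => ((hA r).1 hr).1) helA hJA hne h hhA hhe c hcA hce)
  obtain ⟨A, hA, hAcard, hinv₁⟩ := hpart k₁ hk₁ hk₁1 hk₁y
  have hfour : Nat.card K ≤ 4 := by
    have hsub : (K : Set G) ⊆ {1, y, k₁, k₁ * y} := fun k hk => by
      simp only [Set.mem_insert_iff, Set.mem_singleton_iff]
      by_contra hcon
      push Not at hcon
      obtain ⟨h1, h2, h3, h4⟩ := hcon
      have hk₁i : k₁⁻¹ = k₁ := inv_eq_of_mul_eq_one_right (hKsq k₁ hk₁)
      obtain ⟨-, -, -, hinv⟩ := hpart k hk h1 h2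
      obtain ⟨-, -, -, hinv'⟩ := hpart (k₁ * k) (mul_mem hk₁ hk)
        (fun e => h3 (by rw [mul_eq_one_iff_inv_eq, hk₁i] at e; exact e.symm))
        (fun e => h4 (by rw [← inv_mul_eq_iff_eq_mul.2 e.symm, hk₁i]))
      rw [show k₁ * k * c * (k₁ * k)⁻¹ = k₁ * (k * c * k⁻¹) * k₁⁻¹ by group, hinv,
        show k₁ * c⁻¹ * k₁⁻¹ = (k₁ * c * k₁⁻¹)⁻¹ by group, hinv₁, inv_inv] at hinv'
      exact hce (D.mem_el_of_sq c hcQ (eq_inv_iff_mul_eq_one.1 hinv'))
    rw [← SetLike.coe_sort_coe, Nat.card_coe_set_eq]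
    refine (Set.ncard_le_ncard hsub (Set.toFinite _)).trans ?_
    exact (Set.ncard_insert_le _ _).trans (Nat.succ_le_succ ((Set.ncard_insert_le _ _).trans
      (Nat.succ_le_succ ((Set.ncard_insert_le _ _).trans (by rw [Set.ncard_singleton])))))
  choose r hr k hk hrk using hdec
  have hcard : Nat.card Y ≤ Nat.card K * Nat.card A :=
    Cube.card_le_mul_of_fibre (fun g : Y => (⟨k g g.2, hk g g.2⟩ : K)) (fun g : Y => ((g : G))⁻¹) A (fun g h e => by
      have e' : k g g.2 = k h h.2 := congrArg Subtype.val e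
      rw [inv_inv]
      obtain ⟨s, hs⟩ : ∃ s, s = (g : G) * (h : G)⁻¹ := ⟨_, rfl⟩
      rw [← hs]
      have hsY : s ∈ Y := hs ▸ mul_mem g.2 (inv_mem h.2)
      have hsQ : s ∈ Q := by
        have h1 : s = r g g.2 * (r h h.2)⁻¹ := by
          calc s = (g : G) * (h : G)⁻¹ := hs
            _ = r g g.2 * k g g.2 * (r h h.2 * k h h.2)⁻¹ := congrArg₂ (fun x y => x * y⁻¹) (hrk g g.2) (hrk h h.2)
            _ = _ := by rw [e']; group
        exact h1 ▸ mul_mem (hr _ _) (inv_mem (hr _ _))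
      obtain ⟨t, ht, g₁, hg₁, hk₁eq, -⟩ := (hK k₁).1 hk₁
      refine (hA s).2 ⟨hsQ, ?_⟩
      have hz : s⁻¹ * (g₁ * s * g₁⁻¹) ∈ el Z a := by
        rw [show s⁻¹ * (g₁ * s * g₁⁻¹) = (s * s)⁻¹ * (s * g₁ * (s * g₁)) * (g₁ * g₁)⁻¹ by group]
        exact mul_mem (mul_mem (inv_mem (hsq s hsY)) (hsq _ (mul_mem hsY hg₁))) (inv_mem (hsq g₁ hg₁))
      obtain ⟨e₀, he₀, hge⟩ : ∃ e ∈ el Z a, g₁ * s * g₁⁻¹ = s * e := ⟨_, hz, (mul_inv_cancel_left _ _).symm⟩
      have hcm : s⁻¹ * t⁻¹⁻¹ * s * t⁻¹ ∈ el Z a := D.comm s hsQ t⁻¹ (inv_mem ht)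
      rw [inv_inv] at hcm
      rw [show s⁻¹ * (k₁ * s * k₁⁻¹) = s⁻¹ * t * (g₁ * s * g₁⁻¹) * t⁻¹ by rw [hk₁eq]; group, hge,
        show s⁻¹ * t * (s * e₀) * t⁻¹ = s⁻¹ * t * s * (e₀ * t⁻¹) by group,
        (X.el_comm (D.comm_el _ (inv_mem ht)) he₀).eq, ← mul_assoc]
      exact mul_mem hcm he₀)
      (fun g h _ e => Subtype.ext (inv_injective e))
  exact hcard.trans (Nat.mul_le_mul hfour hAcard)

end CubeData

/-- There is no setting in which all outside involutions fix cubes. -/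
theorem Setting.false_of_cubeData (X : Setting G Ω Z) (hc : IsCube Z Ω)
    (hD : ∀ u : G, orderOf u = 2 → u ∉ Z → ∀ a : Ω, u • a = a → ∃ (b : Ω) (Q J : Subgroup G) (w : G),
      CubeData Z u a b Q J w) : False := by
  classical
  have S := X.hyp
  obtain ⟨u, hu, huZ⟩ := X.exists_out
  obtain ⟨a, ha⟩ := S.exists_fix_invol hu
  obtain ⟨b, Q, J, w, D⟩ := hD u hu huZ a ha
  obtain ⟨P, W, M⟩ := D.exists_member X hc
  have huu := mul_self_of_orderOf_two hu
  have hui := inv_of_orderOf_two hu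
  have hq := D.four_le X
  have hQW : ∀ x ∈ Q, x ∈ W → x ∈ el Z a := fun x hx hxW =>
    D.W_free w D.w_lgen D.w_pair (D.w_ne X) x hx (by
      rw [← (M.comm_w x (M.le_P X D hxW)).eq, mul_inv_cancel_right, inv_mul_cancel]
      exact one_mem _)
  have hcomm : ∀ {x g : G}, x ∈ Q → g ∈ W → Commute x g := fun hx hg => M.commute_QW X D hc hx hg
  have hWab : ∀ g ∈ W, ∀ h ∈ W, Commute g h := fun g hg h hh => by
    have h1 := M.inverted _ (mul_mem hg hh)
    rw [show u * (g * h) * u⁻¹ = u * g * u⁻¹ * (u * h * u⁻¹) by group, M.inverted g hg, M.inverted h hh,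
      mul_inv_rev] at h1
    exact Commute.inv_inv_iff.1 h1
  obtain ⟨c, hcQ, hce⟩ : ∃ c ∈ Q, c ∉ el Z a := by
    by_contra h
    push Not at h
    have h1 := Nat.le_of_dvd Nat.card_pos (Subgroup.card_dvd_of_le h)
    rw [D.card_Q] at h1
    exact absurd h1 (not_le.2 (lt_self_pow₀ (by omega) (by omega)))
  obtain ⟨v, hvW, hv⟩ := M.sqrt (c * c) (D.sq c hcQ)
  obtain ⟨y, hy⟩ : ∃ y, y = c * v := ⟨_, rfl⟩
  have hyy : y * y = 1 := by
    rw [hy, (hcomm hcQ hvW).symm.mul_mul_mul_comm, hv, X.el_mul_self (D.sq c hcQ)]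
  have hy1 : y ≠ 1 := fun h => hce (hQW c hcQ (by
    rw [hy, mul_eq_one_iff_eq_inv] at h
    exact h ▸ inv_mem hvW))
  have hy2 : orderOf y = 2 := orderOf_two_iff.2 ⟨hyy, hy1⟩
  have hya : y • a = a := by rw [hy, mul_smul, M.fix v (M.le_P X D hvW), D.fix_of_mem X hcQ]
  have hyZ : y ∉ Z := fun h => hce (hQW c hcQ (by
    have h1 := mul_mem (M.el_le (X.mem_el.2 (Or.inr ⟨h, hya⟩))) (inv_mem hvW)
    rwa [hy, mul_inv_cancel_right] at h1))
  -- the group `Q W <u>`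
  obtain ⟨T, hT⟩ : ∃ T : Subgroup G, ∀ x, x ∈ T ↔ ∃ r ∈ Q, ∃ g ∈ W, x = r * g ∨ x = r * g * u := by
    refine ⟨{ carrier := {x | ∃ r ∈ Q, ∃ g ∈ W, x = r * g ∨ x = r * g * u}
              one_mem' := ⟨1, one_mem Q, 1, one_mem W, Or.inl (one_mul 1).symm⟩
              mul_mem' := ?mul
              inv_mem' := ?inv }, fun x => Iff.rfl⟩
    case mul =>
      rintro x x' ⟨r, hr, g, hg, hx⟩ ⟨r', hr', g', hg', hx'⟩
      have h1 : r * g * (r' * g') = r * r' * (g * g') := (hcomm hr' hg).symm.mul_mul_mul_comm r g'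
      have h2 : r * g * u * (r' * g') = r * r' * (g * g'⁻¹) * u := by
        rw [← M.inverted g' hg', ← (hcomm hr' hg).symm.mul_mul_mul_comm r (u * g' * u⁻¹)]
        calc r * g * u * (r' * g') = r * g * (u * r') * g' := by group
          _ = r * g * (r' * u) * g' := by rw [(D.commute_u X hr').eq]
          _ = _ := by group
      rcases hx with rfl | rfl <;> rcases hx' with rfl | rfl
      · exact ⟨_, mul_mem hr hr', _, mul_mem hg hg', Or.inl h1⟩
      · exact ⟨_, mul_mem hr hr', _, mul_mem hg hg', Or.inr (by rw [← h1]; group)⟩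
      · exact ⟨_, mul_mem hr hr', _, mul_mem hg (inv_mem hg'), Or.inr h2⟩
      · exact ⟨_, mul_mem hr hr', _, mul_mem hg (inv_mem hg'), Or.inl (by
          rw [← mul_assoc, h2, mul_assoc, huu, mul_one])⟩
    case inv =>
      rintro x ⟨r, hr, g, hg, rfl | rfl⟩
      · exact ⟨r⁻¹, inv_mem hr, g⁻¹, inv_mem hg, Or.inl (by
          rw [mul_inv_rev, ((hcomm hr hg).inv_inv).eq])⟩
      · refine ⟨r⁻¹, inv_mem hr, g, hg, Or.inr ?_⟩
        have h1 : u * g⁻¹ * u⁻¹ = g := by rw [M.inverted _ (inv_mem hg), inv_inv]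
        calc (r * g * u)⁻¹ = u⁻¹ * g⁻¹ * r⁻¹ := by group
          _ = (u⁻¹ * g⁻¹ * u) * (u⁻¹ * r⁻¹) := by group
          _ = (u * g⁻¹ * u⁻¹) * (u * r⁻¹) := by rw [hui]
          _ = _ := by rw [h1, ← (D.commute_u X (inv_mem hr)).eq, ← mul_assoc, ((hcomm hr hg).inv_left.symm).eq]
  have hTs : ∀ x ∈ T, x * x ∈ el Z a ∧ x ∈ cHull Z a := fun x hx => by
    obtain ⟨r, hr, g, hg, rfl | rfl⟩ := (hT x).1 hx
    · refine ⟨?_, mul_mem (D.mem_cHull_of_mem X hr) (M.mem_cHull_of_mem X D hg)⟩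
      rw [(hcomm hr hg).symm.mul_mul_mul_comm]
      exact mul_mem (D.sq r hr) (M.sq_mem X D hg)
    · refine ⟨?_, mul_mem (mul_mem (D.mem_cHull_of_mem X hr) (M.mem_cHull_of_mem X D hg))
        (X.invol_mem_cHull hu ha)⟩
      have h1 : g * r = r * g := (hcomm hr hg).symm.eq
      rw [show r * g * u * (r * g * u) = r * g * (u * r) * (g * u) by group, ← (D.commute_u X hr).eq,
        show r * g * (r * u) * (g * u) = r * (g * r) * (u * g * u) by group, h1,
        show u * g * u = g⁻¹ by rw [← M.inverted g hg, hui],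
        show r * (r * g) * g⁻¹ = r * r by group]
      exact D.sq r hr
  have hyT : y ∈ T := (hT y).2 ⟨c, hcQ, v, hvW, Or.inl hy⟩
  have hu0 : ∀ r ∈ Q, ∀ g ∈ W, r * g ≠ u := fun r hr g hg h => by
    have hge : g ∈ el Z a := M.cent u (fun _ => id) (fun _ => id) g (M.le_P X D hg) (by
      rw [show g = r⁻¹ * u by rw [← h, inv_mul_cancel_left]]
      exact ((D.commute_u X hr).inv_left).mul_left (Commute.refl u))
    have h1 := mul_mem ((D.mem_Q r).1 hr).1 ((D.mem_Q g).1 (D.el_le hge)).1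
    rw [h] at h1
    exact S.notMem_lgen u hu huZ h1
  have hsame : ∀ r r' : Q, ∀ g g' : W, (r : G) * g = r' * g' → (r : G)⁻¹ * r' ∈ el Z a := fun r r' g g' h => by
    refine hQW _ (mul_mem (inv_mem r.2) r'.2) ?_
    rw [show (r : G)⁻¹ * r' = (r : G)⁻¹ * (r' * g') * (g' : G)⁻¹ by group, ← h, inv_mul_cancel_left]
    exact mul_mem g.2 (inv_mem g'.2)
  have hmixed : ∀ r r' : Q, ∀ g g' : W, (r : G) * g ≠ r' * g' * u := fun r r' g g' h => by
    refine hu0 _ (mul_mem (inv_mem r'.2) r.2) _ (mul_mem (inv_mem g'.2) g.2) ?_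
    calc (r' : G)⁻¹ * r * ((g' : G)⁻¹ * g) = (r' : G)⁻¹ * (r * (g' : G)⁻¹) * g := by group
      _ = (r' : G)⁻¹ * ((g' : G)⁻¹ * r) * g := by rw [(hcomm r.2 (inv_mem g'.2)).eq]
      _ = (r' : G)⁻¹ * (g' : G)⁻¹ * (r * g) := by group
      _ = (r' : G)⁻¹ * (g' : G)⁻¹ * (r' * g') * u := by rw [h]; group
      _ = u := by rw [(hcomm r'.2 g'.2).eq]; group
  have hTcard : 2 * (Nat.card Q * Nat.card W) ≤ Nat.card T * Nat.card (el Z a) := by
    have h := Cube.card_le_mul_of_fibre (α := Bool × Q × W)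
      (fun p => (⟨bif p.1 then (p.2.1 : G) * p.2.2 * u else (p.2.1 : G) * p.2.2, (hT _).2 (by
        cases p.1
        · exact ⟨p.2.1, p.2.1.2, p.2.2, p.2.2.2, Or.inl rfl⟩
        · exact ⟨p.2.1, p.2.1.2, p.2.2, p.2.2.2, Or.inr rfl⟩)⟩ : T))
      (fun p => (p.2.1 : G)) (el Z a) ?_ ?_
    · rw [Nat.card_prod, Nat.card_prod, Nat.card_eq_fintype_card (α := Bool), Fintype.card_bool] at h
      exact h
    · rintro ⟨s, r, g⟩ ⟨s', r', g'⟩ e
      have e' := congrArg Subtype.val e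
      cases s <;> cases s' <;> simp only [cond_true, cond_false] at e' ⊢
      · exact hsame r r' g g' e'
      · exact (hmixed r r' g g' e').elim
      · exact (hmixed r' r g' g e'.symm).elim
      · exact hsame r r' g g' (mul_right_cancel e')
    · rintro ⟨s, r, g⟩ ⟨s', r', g'⟩ e e₂
      obtain rfl : r = r' := Subtype.ext e₂
      have e' := congrArg Subtype.val e
      cases s <;> cases s' <;> simp only [cond_true, cond_false] at e' ⊢
      · rw [Subtype.ext (mul_left_cancel e')]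
      · exact (hmixed r r g g' e').elim
      · exact (hmixed r r g' g e'.symm).elim
      · rw [Subtype.ext (mul_left_cancel (mul_right_cancel e'))]
  obtain ⟨Y, hYdef⟩ : ∃ Y : Subgroup G, Y = T ⊓ Subgroup.centralizer ({y} : Set G) := ⟨_, rfl⟩
  have hmemY : ∀ x, x ∈ Y ↔ x ∈ T ∧ Commute x y := fun x => by
    rw [hYdef, Subgroup.mem_inf, Subgroup.mem_centralizer_singleton_iff]
    exact Iff.rfl
  have hYcard : Nat.card T ≤ Nat.card (el Z a) * Nat.card Y := by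
    refine Cube.card_le_mul_of_fibre (fun x : T => (⟨y⁻¹ * ((x : G) * y * (x : G)⁻¹), ?_⟩ : el Z a))
      (fun x : T => (x : G)) Y (fun x x' e => ?_) (fun x x' _ e => Subtype.ext e)
    · rw [show y⁻¹ * ((x : G) * y * (x : G)⁻¹) = (y * y)⁻¹ * (y * x * (y * x)) * ((x : G) * x)⁻¹ by group]
      exact mul_mem (mul_mem (inv_mem (hTs y hyT).1) (hTs _ (mul_mem hyT x.2)).1) (inv_mem (hTs x x.2).1)
    · have e' : (x : G) * y * (x : G)⁻¹ = x' * y * (x' : G)⁻¹ := mul_left_cancel (congrArg Subtype.val e)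
      refine (hmemY _).2 ⟨mul_mem (inv_mem x.2) x'.2, ?_⟩
      refine mul_inv_eq_iff_eq_mul.1 ?_
      calc (x : G)⁻¹ * x' * y * ((x : G)⁻¹ * x')⁻¹ = (x : G)⁻¹ * ((x' : G) * y * (x' : G)⁻¹) * x := by group
        _ = y := by rw [← e']; group
  obtain ⟨b', Q', J', w', D'⟩ := hD y hy2 hyZ a hya
  rcases D'.card_le_or X hc (Y := Y) (fun g hg => ⟨(hTs g ((hmemY g).1 hg).1).2, ((hmemY g).1 hg).2⟩)
    (fun g hg => (hTs g ((hmemY g).1 hg).1).1) ((hmemY y).2 ⟨hyT, Commute.refl y⟩) with hin | hle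
  swap
  · have h1 := M.card_le
    rw [D.card_Q] at hTcard
    generalize Nat.card (el Z a) = q at hle h1 hTcard hYcard hq
    have h2 : 2 * (q ^ 3 * (q * q)) ≤ q * (4 * (q * q)) * q := calc
      2 * (q ^ 3 * (q * q)) ≤ 2 * (q ^ 3 * Nat.card W) := by gcongr
      _ ≤ Nat.card T * q := hTcard
      _ ≤ q * Nat.card Y * q := by gcongr
      _ ≤ _ := by gcongr
    have h3 : q * (2 * q ^ 4) ≤ 4 * q ^ 4 := by
      calc q * (2 * q ^ 4) = 2 * (q ^ 3 * (q * q)) := by ring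
        _ ≤ q * (4 * (q * q)) * q := h2
        _ = _ := by ring
    have h4 : 0 < q ^ 4 := by positivity
    nlinarith
  -- a second involution commuting with `y`
  obtain ⟨R, hR⟩ : ∃ R : Subgroup G, R = Q ⊓ Subgroup.centralizer ({c} : Set G) := ⟨_, rfl⟩
  have hmemR : ∀ x, x ∈ R ↔ x ∈ Q ∧ Commute x c := fun x => by
    rw [hR, Subgroup.mem_inf, Subgroup.mem_centralizer_singleton_iff]
    exact Iff.rfl
  have hRcard : Nat.card Q ≤ Nat.card (el Z a) * Nat.card R := by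
    refine Cube.card_le_mul_of_fibre (fun x : Q => (⟨c⁻¹ * ((x : G) * c * (x : G)⁻¹), ?_⟩ : el Z a))
      (fun x : Q => (x : G)) R (fun x x' e => ?_) (fun x x' _ e => Subtype.ext e)
    · have h := D.comm c hcQ (x : G)⁻¹ (inv_mem x.2)
      rwa [inv_inv, show c⁻¹ * (x : G) * c * (x : G)⁻¹ = c⁻¹ * ((x : G) * c * (x : G)⁻¹) by group] at h
    · have e' : (x : G) * c * (x : G)⁻¹ = x' * c * (x' : G)⁻¹ := mul_left_cancel (congrArg Subtype.val e)
      refine (hmemR _).2 ⟨mul_mem (inv_mem x.2) x'.2, ?_⟩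
      refine mul_inv_eq_iff_eq_mul.1 ?_
      calc (x : G)⁻¹ * x' * c * ((x : G)⁻¹ * x')⁻¹ = (x : G)⁻¹ * ((x' : G) * c * (x' : G)⁻¹) * x := by group
        _ = c := by rw [← e']; group
  obtain ⟨c', hc'R, hc'e, hc'c⟩ : ∃ c' ∈ R, c' ∉ el Z a ∧ c⁻¹ * c' ∉ el Z a := by
    by_contra h
    push Not at h
    have hle : Nat.card R ≤ Nat.card (Bool × el Z a) := by
      refine Nat.card_le_card_of_injective (fun x : R => if hx : (x : G) ∈ el Z a then (false, ⟨x, hx⟩) else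
        (true, ⟨c⁻¹ * x, h x x.2 hx⟩)) fun x x' e => ?_
      by_cases h1 : (x : G) ∈ el Z a <;> by_cases h2 : (x' : G) ∈ el Z a <;>
        simp only [h1, h2, dite_true, dite_false, Prod.mk.injEq, Subtype.mk.injEq, reduceCtorEq, false_and,
          Bool.false_eq_true, true_and, mul_right_inj] at e
      all_goals exact Subtype.ext e
    rw [Nat.card_prod, Nat.card_eq_fintype_card (α := Bool), Fintype.card_bool] at hle
    rw [D.card_Q] at hRcard
    generalize Nat.card (el Z a) = q at hRcard hle hq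
    have h1 : q ^ 3 ≤ q * (2 * q) := hRcard.trans (Nat.mul_le_mul_left q hle)
    have h2 := Nat.mul_le_mul_right (q * q) hq
    have h3 : 0 < q * q := by positivity
    rw [show q ^ 3 = q * (q * q) by ring, show q * (2 * q) = 2 * (q * q) by ring] at h1
    omega
  obtain ⟨hc'Q, hc'c0⟩ := (hmemR c').1 hc'R
  obtain ⟨v', hv'W, hv'⟩ := M.sqrt (c' * c') (D.sq c' hc'Q)
  have hy' : c' * v' ∈ Y := (hmemY _).2 ⟨(hT _).2 ⟨c', hc'Q, v', hv'W, Or.inl rfl⟩, hy ▸
    ((hc'c0.mul_right (hcomm hc'Q hvW)).mul_left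
      ((hcomm hcQ hv'W).symm.mul_right (hWab v' hv'W v hvW)))⟩
  have hy'y' : c' * v' * (c' * v') = 1 := by
    rw [(hcomm hc'Q hv'W).symm.mul_mul_mul_comm, hv', X.el_mul_self (D.sq c' hc'Q)]
  rcases hin _ hy' with h | h
  · refine hc'e (hQW c' hc'Q ?_)
    have h1 := mul_mem (M.el_le (D'.mem_el_of_sq _ h hy'y')) (inv_mem hv'W)
    rwa [mul_inv_cancel_right] at h1
  · have h2 : c' * v' * y ∈ el Z a := D'.mem_el_of_sq _ h (by
      rw [((hmemY _).1 hy').2.symm.mul_mul_mul_comm, hy'y', hyy, one_mul])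
    have h3 : c * c' ∈ W := by
      have h5 := mul_mem (M.el_le h2) (inv_mem (mul_mem hv'W hvW))
      rwa [hy, (hcomm hcQ hv'W).symm.mul_mul_mul_comm, mul_inv_cancel_right, hc'c0.eq] at h5
    have h4 := hQW _ (mul_mem hcQ hc'Q) h3
    refine hc'c ?_
    have := mul_mem (inv_mem (D.sq c hcQ)) h4
    rwa [show (c * c)⁻¹ * (c * c') = c⁻¹ * c' by group] at this

end Cfsg.Agent.Invol.Aschbacher.Last
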