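import Cfsg.Agent.Lib.Invol.Aschbacher.LStruct
import Cfsg.Agent.Lib.Invol.Aschbacher.Last.Cube.Main
import Cfsg.Agent.Lib.Transfer.RankOne.CubeFix

/-!
# The group of an involution fixing a cube

The rank one structure of `lgen Z u` on the fixed points of `u` gives the data of the cube case.
-/

set_option autoImplicit false
set_option linter.unusedSectionVars false

namespace Cfsg.Agent.Invol.Aschbacher.Last

open MulAction Subgroup
open Cfsg.Agent.Invol.Bender (cenAct TwoRank cen)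
open Cfsg.Agent.Transfer (RankOne.kGrp RankOne.zGrp RankOne.wGrp)

universe u

variable {G : Type u} [Group G] [Finite G] {Ω : Type u} [MulAction G Ω] {Z : Set G}

/-- Every outside involution fixing a cube has its data at each fixed point. -/
theorem Setting.exists_cubeData (X : Setting G Ω Z) (hc : IsCube Z Ω) {u : G} (hu : orderOf u = 2) (huZ : u ∉ Z)
    {a : Ω} (ha : u • a = a) : ∃ (b : Ω) (Q J : Subgroup G) (w : G), CubeData Z u a b Q J w := by
  classical
  have S := X.hyp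
  have := X.faithful
  have := S.finite_points
  obtain ⟨x, hx, y, hy, hxy, hxyc⟩ := X.four a
  have h2 : TwoRank (lgen Z u) := ⟨x, X.mem_lgen_of_fix hu huZ ha hx, y, X.mem_lgen_of_fix hu huZ ha hy,
    S.invol x hx.1, S.invol y hy.1, hxy, hxyc⟩
  have F := S.frame_centralizer X.closed hu huZ h2
  have hcen : cen Ω (lgen Z u) = {x : Ω | u • x = x} := S.cen_lgen hu F.sub.zonly
  obtain ⟨a', t, Q', ha', hsimp, R⟩ := S.exists_rankOne_lgen X.closed hu huZ h2 ha
  have := hsimp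
  have := S.faithful_lgen X.closed hu huZ h2
  have hS := R.setup
  have hfix : ∀ p : cenAct Ω (lgen Z u), u • (p : Ω) = p := fun p => hcen.le p.2
  have hel : el Z a ≤ lgen Z u := (Subgroup.closure_le _).2 fun z hz => X.mem_lgen_of_fix hu huZ ha hz
  have hz : ∀ g : lgen Z u, g ∈ RankOne.zGrp (lgen Z u) a' ↔ (g : G) ∈ el Z a := fun g => by
    rw [Transfer.RankOne.mem_zGrp R, X.mem_el, mem_stabilizer_iff]
    constructor
    · rintro ⟨h1, h3⟩
      rcases eq_or_ne (g : G) 1 with h | h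
      · exact Or.inl h
      · refine Or.inr ⟨F.sub.zonly _ g.2 (orderOf_two_iff.2 ⟨congrArg Subtype.val h3, h⟩), ?_⟩
        rw [← ha']
        exact congrArg Subtype.val h1
    · rintro (h | h)
      · rw [show g = 1 from Subtype.ext h]
        exact ⟨one_smul _ _, one_mul 1⟩
      · exact ⟨Subtype.ext (show (g : G) • (a' : Ω) = a' by rw [ha', h.2]),
          Subtype.ext (mul_self_of_orderOf_two (S.invol _ h.1))⟩
  have hq : Nat.card (RankOne.zGrp (lgen Z u) a') = Nat.card (el Z a) := Nat.card_congr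
    { toFun := fun g => ⟨((g : lgen Z u) : G), (hz g).1 g.2⟩
      invFun := fun e => ⟨⟨e, hel e.2⟩, (hz _).2 e.2⟩
      left_inv := fun _ => rfl
      right_inv := fun _ => rfl }
  have hb' : t • a' ≠ a' := Lie.RankOne.b_ne hS
  have hQn : Nat.card Q' = (others u a).ncard := by
    rw [← Nat.card_coe_set_eq]
    refine Nat.card_eq_of_bijective (fun q => ⟨((q : lgen Z u) • t • a' : cenAct Ω (lgen Z u)), hfix _,
      fun e => hb' (smul_left_cancel (q : lgen Z u)
        ((Subtype.ext (e.trans ha'.symm)).trans (Lie.RankOne.q_fix hS q.2).symm))⟩) ⟨fun p q h => ?_, fun x => ?_⟩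
    · exact Subtype.ext (Lie.RankOne.q_unique hS p.2 q.2 (Subtype.ext ((Subtype.ext_iff.1 h :))))
    · obtain ⟨q, hq', hqx⟩ := Lie.RankOne.exists_q hS (c := ⟨x, hcen.ge x.2.1⟩)
        (fun e => x.2.2 ((congrArg Subtype.val e).trans ha'))
      exact ⟨⟨q, hq'⟩, Subtype.ext (congrArg Subtype.val hqx :)⟩
  rw [hc u hu huZ a ha] at hQn
  obtain ⟨hQ2, hcase⟩ := Transfer.RankOne.struct_all R
  have h4 : 4 ≤ Nat.card (RankOne.zGrp (lgen Z u) a') := Transfer.RankOne.four_le_q R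
  rw [← hq] at hQn
  obtain ⟨hna, hsz, hW⟩ : (∃ x ∈ Q', ∃ y ∈ Q', x * y ≠ y * x) ∧
      Nat.card Q' = Nat.card (RankOne.zGrp (lgen Z u) a') ^ 3 ∧ RankOne.wGrp a' t ≠ ⊥ := by
    rcases hcase with h | ⟨hna, h | ⟨h, hW⟩⟩
    · rw [hQn] at h
      exact absurd h (lt_self_pow₀ (by omega) (by omega)).ne'
    · rw [hQn] at h
      exact absurd (Nat.pow_right_injective (by omega) h) (by omega)
    · exact ⟨hna, h, hW⟩
  obtain ⟨-, F', _, _, -, -, _, ⟨E⟩⟩ := Transfer.RankOne.exists_env R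
  obtain ⟨w₀, hw₀, hw₀1⟩ := (Subgroup.bot_or_exists_ne_one _).resolve_left hW
  obtain ⟨p, hp, hpd⟩ := Nat.exists_prime_and_dvd (fun h => hw₀1 (orderOf_eq_one_iff.1 h) : orderOf w₀ ≠ 1)
  obtain ⟨w, hw⟩ : ∃ w, w = w₀ ^ (orderOf w₀ / p) := ⟨_, rfl⟩
  have hord : orderOf w = p := hw ▸ orderOf_pow_orderOf_div (orderOf_pos w₀).ne' hpd
  have hwW : w ∈ RankOne.wGrp a' t := hw ▸ pow_mem hw₀ _
  have hw1 : w ≠ 1 := fun h => hp.one_lt.ne' (by rw [← hord, h, orderOf_one])
  have hrz := Transfer.RankOne.r_mem_cube E hQ2 hna hsz hwW hw1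
  obtain ⟨b, hb⟩ : ∃ b : Ω, b = ((t • a' : cenAct Ω (lgen Z u)) : Ω) := ⟨_, rfl⟩
  have hba : b ≠ a := fun h => hb' (Subtype.ext (hb.symm.trans (h.trans ha'.symm)))
  have hpair : ∀ g : lgen Z u, g ∈ Transfer.RankOne.dGrp a' t ↔ (g : G) • a = a ∧ (g : G) • b = b := fun g => by
    rw [Subgroup.mem_inf, mem_stabilizer_iff, mem_stabilizer_iff, Subtype.ext_iff, Subtype.ext_iff, ← ha', hb]
    exact Iff.rfl
  have htZ : (t : G) ∈ Z := F.sub.zonly _ t.2 (orderOf_two_iff.2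
    ⟨congrArg Subtype.val hS.mul_self, fun h => hS.ne_one (Subtype.ext h)⟩)
  have htab : (t : G) ∈ zSwap Z a b := ⟨htZ, by rw [hb, ← ha']; rfl⟩
  have hJcomm : ∀ j ∈ RankOne.kGrp a' t, ∀ k ∈ cPair Z a b, Commute (j : G) k := fun j hj k hk => by
    obtain ⟨hjD, hjt⟩ := (Transfer.RankOne.mem_kGrp R).1 hj
    have htt : t * t = 1 := hS.mul_self
    have hs : t * j * (t * j) = 1 := by
      rw [show t⁻¹ = t from inv_eq_of_mul_eq_one_right htt] at hjt
      rw [← mul_assoc, hjt, inv_mul_cancel]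
    obtain ⟨hja, -⟩ := (hpair j).1 hjD
    have hs1 : ((t * j : lgen Z u) : G) ≠ 1 := fun h => hba (by
      rw [← htab.2]
      conv_lhs => rw [← hja]
      rw [← mul_smul, show ((t : G) * (j : G)) = 1 from h, one_smul])
    have hsZ := F.sub.zonly _ (t * j).2 (orderOf_two_iff.2 ⟨congrArg Subtype.val hs, hs1⟩)
    have hsab : ((t * j : lgen Z u) : G) ∈ zSwap Z a b :=
      ⟨hsZ, by rw [Subgroup.coe_mul, mul_smul, hja, htab.2]⟩
    have h1 := (X.commute_swap hba.symm hk htab).inv_left.mul_left (X.commute_swap hba.symm hk hsab)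
    rwa [Subgroup.coe_mul, inv_mul_cancel_left] at h1
  refine ⟨b, Q'.map (lgen Z u).subtype, (RankOne.kGrp a' t).map (lgen Z u).subtype, (w : G), ?_⟩
  refine
    { invol := hu
      outside := huZ
      fix_left := ha
      fix_right := hb ▸ hfix _
      ne := hba.symm
      mem_Q := fun g => ⟨?_, ?_⟩
      card_Q := by rw [Subgroup.card_map_of_injective (lgen Z u).subtype_injective, hsz, hq]
      move := ?_
      free := ?_
      comm_el := ?_
      el_le := ?_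
      sq := ?_
      comm := ?_
      mem_el_of_sq := ?_
      J_le := ?_
      J_pair := ?_
      J_odd := ?_
      J_card := ?_
      J_comm := ?_
      J_trans := ?_
      J_free := ?_
      mid := ?_
      w_lgen := w.2
      w_pair := ?_
      w_order := ⟨p, hp, ?_, by rw [Subgroup.orderOf_coe, hord]⟩
      w_line := ?_
      W_free := ?_ }
  · rintro ⟨q, hq', rfl⟩
    refine ⟨q.2, ?_, ?_⟩
    · rw [← ha']
      exact congrArg Subtype.val (Lie.RankOne.q_fix hS hq')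
    · obtain ⟨k, hk⟩ := hQ2 ⟨q, hq'⟩
      exact ⟨k, congrArg (fun v : Q' => ((v : lgen Z u) : G)) hk⟩
  · rintro ⟨hgL, hga, k, hk⟩
    have hgs : (⟨g, hgL⟩ : lgen Z u) ∈ stabilizer (lgen Z u) a' :=
      mem_stabilizer_iff.2 (Subtype.ext (show g • (a' : Ω) = a' by rw [ha', hga]))
    let N := Q'.subgroupOf (stabilizer (lgen Z u) a')
    have hNn : N.Normal := ⟨fun n hn h => by
      rw [Subgroup.mem_subgroupOf] at hn ⊢
      exact hS.conj_mem h h.2 n hn⟩
    have hNodd : Odd N.index := by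
      have h1 := N.card_mul_index
      have hNc : Nat.card N = Nat.card Q' := Nat.card_congr (subgroupOfEquivOfLe hS.le).toEquiv
      rw [Lie.RankOne.card_stab hS, hNc] at h1
      rw [Nat.eq_of_mul_eq_mul_left Nat.card_pos h1]
      exact hS.odd_card
    have h1 := Bender.mem_of_two_pow hNn hNodd (q := ⟨_, hgs⟩) (s := k)
      (Subtype.ext (Subtype.ext (by simpa using hk)))
    exact ⟨_, Subgroup.mem_subgroupOf.1 h1, rfl⟩
  · intro x hx hxa
    obtain ⟨q, hq', hqx⟩ := Lie.RankOne.exists_q hS (c := ⟨x, hcen.ge hx⟩)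
      (fun e => hxa ((congrArg Subtype.val e).trans ha'))
    exact ⟨q, ⟨q, hq', rfl⟩, by rw [hb]; exact congrArg Subtype.val hqx⟩
  · rintro g ⟨q, hq', rfl⟩ h
    rw [hb] at h
    rw [Lie.RankOne.semireg hS hq' hb' (Subtype.ext h)]
    rfl
  · rintro g ⟨q, hq', rfl⟩ z hzz
    exact congrArg Subtype.val (Transfer.RankOne.zGrp_central R
      ((hz ⟨z, X.mem_lgen_of_fix hu huZ ha hzz⟩).2 (X.mem_el.2 (Or.inr hzz))) hq')
  · exact fun e he => ⟨⟨e, hel he⟩, Transfer.RankOne.zGrp_le R ((hz _).2 he), rfl⟩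
  · rintro g ⟨q, hq', rfl⟩
    exact (hz _).1 ((Transfer.RankOne.q_shape R hQ2 hna).2 q hq')
  · rintro g ⟨q, hq', rfl⟩ h ⟨r, hr, rfl⟩
    exact (hz _).1 ((Transfer.RankOne.q_shape R hQ2 hna).1 q hq' r hr)
  · rintro g ⟨q, hq', rfl⟩ h
    exact (hz q).1 ((Transfer.RankOne.mem_zGrp' R).2 ⟨hq', Subtype.ext h⟩)
  · rintro g ⟨q, -, rfl⟩
    exact q.2
  · rintro g ⟨q, hq', rfl⟩
    exact (hpair q).1 (Transfer.RankOne.kGrp_le_dGrp R hq')
  · rw [Subgroup.card_map_of_injective (lgen Z u).subtype_injective]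
    exact hS.odd_card.of_dvd_nat (Subgroup.card_dvd_of_le (Transfer.RankOne.kGrp_le_dGrp R))
  · rw [Subgroup.card_map_of_injective (lgen Z u).subtype_injective, ← hq]
    exact Transfer.RankOne.card_kGrp R
  · rintro g ⟨q, hq', rfl⟩ k hk
    exact hJcomm q hq' k hk
  · intro z hzz s hss
    have hmem : ∀ {z : G} (h : z ∈ zAt Z a), (⟨z, X.mem_lgen_of_fix hu huZ ha h⟩ : lgen Z u) ∈
        Cfsg.involutionsIn (stabilizer (lgen Z u) a' : Set (lgen Z u)) := fun {z} h =>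
      ⟨mem_stabilizer_iff.2 (Subtype.ext (show z • (a' : Ω) = a' by rw [ha', h.2])),
        fun e => X.one_notMem_zAt a (by
        have e' : z = 1 := congrArg Subtype.val e
        rwa [e'] at h),
        Subtype.ext (mul_self_of_orderOf_two (S.invol z h.1))⟩
    obtain ⟨k, hk, e⟩ := Transfer.RankOne.exists_k_conj R (hmem hzz) (hmem hss)
    exact ⟨k, ⟨k, hk, rfl⟩, congrArg Subtype.val e⟩
  · rintro g ⟨q, hq', rfl⟩ z hzz h
    by_contra hne
    have hzL := X.mem_lgen_of_fix hu huZ ha hzz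
    have h1 := Transfer.RankOne.kGrp_fpf R hq' (fun e => hne (by rw [e]; rfl))
      (Transfer.RankOne.zGrp_le R ((hz ⟨z, hzL⟩).2 (X.mem_el.2 (Or.inr hzz)))) (Subtype.ext h.eq)
    have e' : z = 1 := congrArg Subtype.val h1
    rw [e'] at hzz
    exact X.one_notMem_zAt a hzz
  · intro A hAQ hA hAJ hne c hcA hce x hxA hxe
    have hAL : ∀ {g : G}, g ∈ A → g ∈ lgen Z u := fun hg => by
      obtain ⟨q, -, rfl⟩ := hAQ hg
      exact q.2
    let A' : Subgroup (lgen Z u) := A.subgroupOf (lgen Z u)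
    have hA'Q : A' ≤ Q' := fun g hg => by
      obtain ⟨q, hq', e⟩ := hAQ hg
      rwa [← Subtype.ext (show (q : G) = g from e)]
    obtain ⟨y₀, hy₀, hy₀A⟩ : ∃ y ∈ Q', y ∉ A' := by
      by_contra h
      push Not at h
      refine hne (le_antisymm hAQ ?_)
      rintro g ⟨q, hq', rfl⟩
      exact h q hq'
    obtain ⟨h1, -⟩ := Transfer.RankOne.mid_sub R hsz hA'Q
      (fun k hk r hr => hAJ _ ⟨k, hk, rfl⟩ _ hr) (fun g hg => hA ((hz g).1 hg))
      (x₀ := ⟨c, hAL hcA⟩) hcA (fun h => hce ((hz _).1 h)) hy₀ hy₀A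
    obtain ⟨k, hk, z, hzz, e⟩ := h1 ⟨c, hAL hcA⟩ hcA (fun h => hce ((hz _).1 h)) ⟨x, hAL hxA⟩ hxA
      (fun h => hxe ((hz _).1 h))
    exact ⟨k, ⟨k, hk, rfl⟩, z, (hz z).1 hzz, congrArg Subtype.val e⟩
  · refine mem_cPair.2 ⟨((hpair w).1 (Transfer.RankOne.vGrp_le_dGrp (Transfer.RankOne.wGrp_le_vGrp hwW))).1,
      ((hpair w).1 (Transfer.RankOne.vGrp_le_dGrp (Transfer.RankOne.wGrp_le_vGrp hwW))).2, fun z hzz => ?_⟩
    exact congrArg Subtype.val (Transfer.RankOne.w_comm_z E hQ2 hna hwW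
      ((hz ⟨z, X.mem_lgen_of_fix hu huZ ha hzz⟩).2 (X.mem_el.2 (Or.inr hzz))))
  · exact hord ▸ (Transfer.RankOne.odd_vGrp R).of_dvd_nat
      (Subgroup.orderOf_dvd_natCard _ (Transfer.RankOne.wGrp_le_vGrp hwW))
  · intro x hx hwx
    rcases (Transfer.RankOne.fix_w E hQ2 hna hsz hrz hwW hw1 (c := ⟨x, hcen.ge hx⟩)).1 (Subtype.ext hwx) with
      h | ⟨z, hzz, h⟩
    · exact Or.inl ((congrArg Subtype.val h).trans ha')
    · exact Or.inr ⟨z, (hz z).1 hzz, by rw [hb]; exact (congrArg Subtype.val h).symm⟩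
  · rintro g hgL hgp hg1 q ⟨q₀, hq₀, rfl⟩ hcos
    obtain ⟨hga, hgb, -⟩ := mem_cPair.1 hgp
    have hgV : (⟨g, hgL⟩ : lgen Z u) ∈ RankOne.wGrp a' t := by
      refine Transfer.RankOne.mem_wGrp.2 ⟨Transfer.RankOne.mem_vGrp.2 ⟨(hpair _).2 ⟨hga, hgb⟩,
        Subtype.ext (X.commute_swap hba.symm hgp htab).symm.eq⟩, fun k hk => Subtype.ext (hJcomm k hk g hgp).eq⟩
    have hfix' := Transfer.RankOne.w_fix_of_coset E hQ2 hna hgV (x := q₀) ((hz _).2 hcos)
    exact (hz _).1 (Transfer.RankOne.cq_w E hQ2 hna hsz hgV (fun e => hg1 (congrArg Subtype.val e)) hq₀ hfix')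

/-- There is no setting in which all outside involutions fix cubes. -/
theorem Setting.false_of_isCube (X : Setting G Ω Z) (hc : IsCube Z Ω) : False :=
  X.false_of_cubeData hc fun _ hu huZ _ ha => X.exists_cubeData hc hu huZ ha

end Cfsg.Agent.Invol.Aschbacher.Last
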