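import Cfsg.Agent.Lib.Invol.Aschbacher.Last.Cube.Member

/-!
# Two elements trivial on `Q` modulo the members

An involution with the fixed points of `u` commuting with `u` and `w` inverts `W`, so only `u` is such an involution
and it has no square root; hence an element of two-power order of the pair group commuting with `u` and trivial on
`Q` modulo `el Z a` is `1` or `u`.
-/

set_option autoImplicit false
set_option linter.unusedSectionVars false

namespace Cfsg.Agent.Invol.Aschbacher.Last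

open MulAction Subgroup

universe u

variable {G : Type u} [Group G] [Finite G] {Ω : Type u} [MulAction G Ω] {Z : Set G}

namespace Member

variable {u : G} {a b : Ω} {Q J : Subgroup G} {w : G} {P W : Subgroup G} (M : Member Z u a J w P W)
  (X : Setting G Ω Z) (D : CubeData Z u a b Q J w)
include M X D

theorem le_P {g : G} (hg : g ∈ W) : g ∈ P := ((M.mem_W g).1 hg).1

theorem el_comm_mem {g e : G} (hg : g ∈ P) (he : e ∈ el Z a) : Commute e g := X.el_comm (M.comm_el g hg) he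

theorem sq_mem {g : G} (hg : g ∈ W) : g * g ∈ el Z a := by
  have h := ((M.mem_W g).1 hg).2
  rw [M.inverted g hg, ← mul_inv_rev] at h
  rw [← inv_inv (g * g)]
  exact inv_mem h

theorem mem_el_of_sq {g : G} (hg : g ∈ W) (h : g * g = 1) : g ∈ el Z a := by
  refine M.cent u (fun _ => id) (fun _ => id) g (M.le_P X D hg) ?_
  have h1 := M.inverted g hg
  rw [inv_eq_of_mul_eq_one_right h] at h1
  exact (mul_inv_eq_iff_eq_mul.1 h1).symm

/-- An element fixing `a` and commuting with `u` and `w` normalises `W`. -/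
theorem conj_mem {k : G} (hka : k • a = a) (hku : Commute k u) (hkw : Commute k w) {g : G} (hg : g ∈ W) :
    k * g * k⁻¹ ∈ W := by
  obtain ⟨hgP, hge⟩ := (M.mem_W g).1 hg
  refine (M.mem_W _).2 ⟨M.norm k hka hkw g hgP, ?_⟩
  rw [show (k * g * k⁻¹)⁻¹ * (u * (k * g * k⁻¹) * u⁻¹) = k * g⁻¹ * k⁻¹ * ((u * k) * g * (u * k)⁻¹) by group,
    ← hku.eq, show k * g⁻¹ * k⁻¹ * ((k * u) * g * (k * u)⁻¹) = k * (g⁻¹ * (u * g * u⁻¹)) * k⁻¹ by group]
  exact D.conj_el X hka hge

/-- An element normalising `W` and centralising the members fixes the cosets of `el Z a` in `W`. -/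
theorem coset_fixed {k : G} (hka : k • a = a) (hku : Commute k u) (hkw : Commute k w)
    (hke : ∀ z ∈ zAt Z a, Commute z k) {g : G} (hg : g ∈ W) : g⁻¹ * (k * g * k⁻¹) ∈ el Z a := by
  by_cases hge : g ∈ el Z a
  · exact mul_mem (inv_mem hge) (D.conj_el X hka hge)
  have hk : k * g * k⁻¹ ∉ el Z a := fun h => hge (by
    have h1 := D.conj_el X (k := k⁻¹) (inv_smul_eq_iff.2 hka.symm) h
    rwa [show k⁻¹ * (k * g * k⁻¹) * k⁻¹⁻¹ = g by group] at h1)
  obtain ⟨j, hj, e, he, heq⟩ := M.orbit g hg hge _ (M.conj_mem X D hka hku hkw hg) hk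
  have hjW := M.conj_mem X D (D.J_fix X hj) (D.J_commute_u X hj) (D.J_commute_w X hj) hg
  have h1 : k * (g * g) * k⁻¹ = j * (g * g) * j⁻¹ := by
    rw [show k * (g * g) * k⁻¹ = k * g * k⁻¹ * (k * g * k⁻¹) by group,
      D.sq_eq_of_coset X he (M.el_comm_mem X D (M.le_P X D hjW) he) heq]
    group
  rw [← (X.el_comm hke (M.sq_mem X D hg)).eq, mul_inv_cancel_right] at h1
  have hj1 : j = 1 := D.J_free_el X hj (M.sq_mem X D hg) (fun h => hge (M.mem_el_of_sq X D hg h))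
    (mul_inv_eq_iff_eq_mul.1 h1.symm)
  rw [heq, hj1, one_mul, inv_one, mul_one, inv_mul_cancel_left]
  exact he

/-- An involution commuting with `u` and `w` with the fixed points of `u` inverts `W`. -/
theorem inverted_of {x : G} (hx : orderOf x = 2) (hxa : x • a = a) (hxu : Commute x u) (hxw : Commute x w)
    (hxe : ∀ z ∈ zAt Z a, Commute z x) (hxJ : ∀ j ∈ J, Commute x j) (h1 : ∀ y : Ω, x • y = y → u • y = y)
    (h2 : ∀ y : Ω, u • y = y → x • y = y) {g : G} (hg : g ∈ W) : x * g * x⁻¹ = g⁻¹ := by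
  classical
  have hxx := mul_self_of_orderOf_two hx
  have hxi := inv_of_orderOf_two hx
  have : Fact (Nat.Prime 2) := ⟨Nat.prime_two⟩
  have hall : ∀ t ∈ zpowers x, t = 1 ∨ t = x := fun t ht => by
    obtain ⟨i, rfl⟩ := mem_zpowers_iff.1 ht
    exact zpow_eq_one_or_self hx i
  obtain ⟨c, hc, hcW, hcx⟩ := Cube.exists_fixed_coset (T := zpowers x)
    (IsPGroup.of_card (n := 1) (by rw [Nat.card_zpowers, hx, pow_one])) M.two (fun g hg => M.le_P X D hg) M.ne
    (fun t ht g hg => by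
      rcases hall t ht with rfl | rfl
      · rwa [one_mul, inv_one, mul_one]
      · exact M.norm _ hxa hxw g hg)
    (fun t ht g hg => by
      rcases hall t ht with rfl | rfl
      · rwa [one_mul, inv_one, mul_one]
      · exact M.conj_mem X D hxa hxu hxw hg)
  obtain ⟨d, hd⟩ : ∃ d, d = c⁻¹ * (x * c * x⁻¹) := ⟨_, rfl⟩
  have hdW : d ∈ W := hd ▸ hcx x (mem_zpowers x)
  -- the elements moved by `x` inside `el Z a` are those of `W`
  obtain ⟨R, hR⟩ : ∃ R : Subgroup G, ∀ g, g ∈ R ↔ g ∈ P ∧ g⁻¹ * (x * g * x⁻¹) ∈ el Z a := by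
    refine ⟨{ carrier := {g | g ∈ P ∧ g⁻¹ * (x * g * x⁻¹) ∈ el Z a}
              one_mem' := ⟨one_mem P, ?one⟩
              mul_mem' := ?mul
              inv_mem' := ?inv }, fun g => Iff.rfl⟩
    case one => simp [one_mem]
    case mul =>
      rintro g h ⟨hg, hg'⟩ ⟨hh, hh'⟩
      refine ⟨mul_mem hg hh, ?_⟩
      rw [show (g * h)⁻¹ * (x * (g * h) * x⁻¹) = h⁻¹ * (g⁻¹ * (x * g * x⁻¹)) * (x * h * x⁻¹) by group,
        ((M.el_comm_mem X D (inv_mem hh) hg').symm).eq, mul_assoc]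
      exact mul_mem hg' hh'
    case inv =>
      rintro g ⟨hg, hg'⟩
      refine ⟨inv_mem hg, ?_⟩
      rw [show g⁻¹⁻¹ * (x * g⁻¹ * x⁻¹) = g * (g⁻¹ * (x * g * x⁻¹))⁻¹ * g⁻¹ by group,
        ((M.el_comm_mem X D hg (inv_mem hg')).symm).eq, mul_inv_cancel_right]
      exact inv_mem hg'
  have hRcard : Nat.card R ≤ Nat.card (el Z a) * Nat.card (el Z a) :=
    Cube.card_le_mul_of_fibre (fun g : R => (⟨_, ((hR g).1 g.2).2⟩ : el Z a)) (fun g : R => (g : G)) (el Z a)
      (fun g h e => by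
        obtain ⟨hgP, hge⟩ := (hR g).1 g.2
        obtain ⟨hhP, -⟩ := (hR h).1 h.2
        obtain ⟨r, hr⟩ : ∃ r, r = (g : G)⁻¹ * (x * g * x⁻¹) := ⟨_, rfl⟩
        have e' : (h : G)⁻¹ * (x * h * x⁻¹) = r := hr ▸ (congrArg Subtype.val e).symm
        have hre : r ∈ el Z a := hr ▸ hge
        refine M.cent x h1 h2 _ (mul_mem (inv_mem hgP) hhP) (mul_inv_eq_iff_eq_mul.1 ?_).symm
        calc x * ((g : G)⁻¹ * h) * x⁻¹ = (x * g * x⁻¹)⁻¹ * (x * h * x⁻¹) := by group
          _ = (g * r)⁻¹ * (h * r) := by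
            rw [show x * (g : G) * x⁻¹ = g * r by rw [hr, mul_inv_cancel_left],
              show x * (h : G) * x⁻¹ = h * r by rw [← e', mul_inv_cancel_left]]
          _ = r⁻¹ * ((g : G)⁻¹ * h * r) := by group
          _ = (g : G)⁻¹ * h := by
            rw [← (M.el_comm_mem X D (mul_mem (inv_mem hgP) hhP) hre).eq, inv_mul_cancel_left])
      (fun g h _ e => Subtype.ext e)
  have hWR : W = R := Subgroup.eq_of_le_of_card_ge
    (fun g hg => (hR g).2 ⟨M.le_P X D hg, M.coset_fixed X D hxa hxu hxw hxe hg⟩) (hRcard.trans M.card_le)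
  have hde : d ∉ el Z a := fun h => hcW (hWR ▸ (hR c).2 ⟨hc, hd ▸ h⟩)
  have hdx : x * d * x⁻¹ = d⁻¹ := by
    rw [hd, hxi]
    calc x * (c⁻¹ * (x * c * x)) * x = x * c⁻¹ * x * c * (x * x) := by group
      _ = (x * c * x)⁻¹ * c := by rw [hxx, mul_one, mul_inv_rev, mul_inv_rev, hxi]; group
      _ = _ := by group
  by_cases hge : g ∈ el Z a
  · rw [← (X.el_comm hxe hge).eq, mul_inv_cancel_right, inv_eq_of_mul_eq_one_right (X.el_mul_self hge)]
  exact Cube.inv_orbit (fun e he => X.el_mul_self he) hxJ (fun e he => (X.el_comm hxe he).symm) hdx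
    (fun e he => M.el_comm_mem X D (M.le_P X D hg) he) (M.orbit d hdW hde g hg hge)

/-- The only elements of two-power order of the pair group commuting with `u` and `w` and fixing the fixed points of
`u` are `1` and `u`. -/
theorem eq_one_or_self (hc : IsCube Z Ω) {x : G} (hx : ∃ n : ℕ, x ^ 2 ^ n = 1) (hxp : x ∈ cPair Z a b)
    (hxu : Commute x u) (hxw : Commute x w) (h2 : ∀ y : Ω, u • y = y → x • y = y) : x = 1 ∨ x = u := by
  have S := X.hyp
  have hu := D.invol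
  have huu := mul_self_of_orderOf_two hu
  obtain ⟨hua, hub, huc⟩ := mem_cPair.1 (X.invol_mem_cPair hu D.fix_left D.fix_right)
  obtain ⟨d, hdW, hde⟩ := M.exists_outside
  -- involutions
  have hinv : ∀ y : G, orderOf y = 2 → y ∈ cPair Z a b → Commute y u → Commute y w →
      (∀ t : Ω, u • t = t → y • t = t) → ∀ g ∈ W, y * g * y⁻¹ = g⁻¹ := fun y hy hyp hyu hyw hy2 g hg => by
    obtain ⟨hya, hyb, hyc⟩ := mem_cPair.1 hyp
    have hyZ : y ∉ Z := fun h => D.ne (S.fix_unique h hya hyb)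
    have := S.finite_points
    have hsub : others u a ⊆ others y a := fun t ht => ⟨hy2 t ht.1, ht.2⟩
    have heq : others u a = others y a := Set.eq_of_subset_of_ncard_le hsub
      (by rw [hc y hy hyZ a hya, hc u hu D.outside a D.fix_left]) (Set.toFinite _)
    refine M.inverted_of X D hy hya hyu hyw hyc (fun j hj => (D.J_comm j hj y hyp).symm) (fun t ht => ?_) hy2 hg
    rcases eq_or_ne t a with rfl | hta
    · exact D.fix_left
    · exact (heq ▸ ⟨ht, hta⟩ : t ∈ others u a).1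
  have hone : ∀ y : G, y * y = 1 → y ∈ cPair Z a b → Commute y u → Commute y w →
      (∀ t : Ω, u • t = t → y • t = t) → y = 1 ∨ y = u := fun y hy hyp hyu hyw hy2 => by
    by_contra h
    push Not at h
    have hy' : orderOf y = 2 := orderOf_two_iff.2 ⟨hy, h.1⟩
    have huy : orderOf (u * y) = 2 := orderOf_two_iff.2 ⟨by rw [hyu.mul_mul_mul_comm, huu, hy, one_mul],
      fun e => h.2 (by
        rw [mul_eq_one_iff_eq_inv, inv_eq_of_mul_eq_one_right hy] at e
        exact e.symm)⟩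
    have hd1 := hinv y hy' hyp hyu hyw hy2 d hdW
    have hd2 := hinv (u * y) huy (mul_mem (X.invol_mem_cPair hu D.fix_left D.fix_right) hyp)
      ((Commute.refl u).mul_left hyu) ((commute_of_mem_lgen D.w_lgen).symm.mul_left hyw)
      (fun t ht => by rw [mul_smul, hy2 t ht, ht]) d hdW
    rw [show u * y * d * (u * y)⁻¹ = u * (y * d * y⁻¹) * u⁻¹ by group, hd1,
      show u * d⁻¹ * u⁻¹ = (u * d * u⁻¹)⁻¹ by group, M.inverted d hdW, inv_inv] at hd2
    exact hde (M.mem_el_of_sq X D hdW (eq_inv_iff_mul_eq_one.1 hd2))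
  by_contra hne
  obtain ⟨n, hn⟩ := hx
  classical
  have hex : ∃ i : ℕ, x ^ 2 ^ i = 1 ∨ x ^ 2 ^ i = u := ⟨n, Or.inl hn⟩
  obtain ⟨i, hi⟩ : ∃ i, Nat.find hex = i + 1 := Nat.exists_eq_succ_of_ne_zero fun e => hne (by
    have := Nat.find_spec hex
    rwa [e, pow_zero, pow_one] at this)
  obtain ⟨y, hy⟩ : ∃ y, y = x ^ 2 ^ i := ⟨_, rfl⟩
  have hyy : y * y = x ^ 2 ^ (i + 1) := by rw [hy, ← pow_add, pow_succ, mul_two]
  have hyp : y ∈ cPair Z a b := hy ▸ pow_mem hxp _
  have hyu : Commute y u := hy ▸ hxu.pow_left _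
  have hyw : Commute y w := hy ▸ hxw.pow_left _
  have hy2 : ∀ t : Ω, u • t = t → y • t = t := fun t ht =>
    hy ▸ mem_stabilizer_iff.1 (pow_mem (mem_stabilizer_iff.2 (h2 t ht)) _)
  have hyne : ¬(y = 1 ∨ y = u) := hy ▸ Nat.find_min hex (by omega)
  have hspec := Nat.find_spec hex
  rw [hi, ← hyy] at hspec
  rcases hspec with h | h
  · exact hyne (hone y h hyp hyu hyw hy2)
  obtain ⟨hya, -, hyc⟩ := mem_cPair.1 hyp
  obtain ⟨e, he, hee⟩ : ∃ e ∈ el Z a, y * d * y⁻¹ = d * e :=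
    ⟨_, M.coset_fixed X D hya hyu hyw hyc hdW, (mul_inv_cancel_left _ _).symm⟩
  have h3 : u * d * u⁻¹ = d := by
    rw [← h, show y * y * d * (y * y)⁻¹ = y * (y * d * y⁻¹) * y⁻¹ by group, hee,
      show y * (d * e) * y⁻¹ = y * d * y⁻¹ * (y * e * y⁻¹) by group, hee,
      ← (X.el_comm hyc he).eq, mul_inv_cancel_right, mul_assoc, X.el_mul_self he, mul_one]
  rw [M.inverted d hdW] at h3
  exact hde (M.mem_el_of_sq X D hdW (inv_eq_iff_mul_eq_one.1 h3))

/-- An element of two-power order of the pair group commuting with `u` and trivial on `Q` modulo `el Z a` is `1` or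
`u`. -/
theorem eq_one_or_self_of_trivial (hc : IsCube Z Ω) {k : G} (hk : ∃ n : ℕ, k ^ 2 ^ n = 1) (hkp : k ∈ cPair Z a b)
    (hku : Commute k u) (htriv : ∀ q ∈ Q, q⁻¹ * (k * q * k⁻¹) ∈ el Z a) : k = 1 ∨ k = u := by
  obtain ⟨hka, hkb, hkc⟩ := mem_cPair.1 hkp
  obtain ⟨hwa, hwb, hwc⟩ := mem_cPair.1 D.w_pair
  have hwu := commute_of_mem_lgen D.w_lgen
  have hq := D.four_le X
  have hkw : Commute k w := by
    by_contra hne
    obtain ⟨g, hg⟩ : ∃ g, g = w⁻¹ * (k * w * k⁻¹) := ⟨_, rfl⟩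
    have hgL : g ∈ lgen Z u := by
      refine hg ▸ mul_mem (inv_mem D.w_lgen) ?_
      have hle : lgen Z u ≤ (lgen Z u).comap (MulAut.conj k).toMonoidHom :=
        (Subgroup.closure_le _).2 fun z hz => by
          refine mem_lgen (X.hyp.conj_mem k z hz.1) ?_
          have h0 := hz.2.map (MulAut.conj k).toMonoidHom
          simp only [MulEquiv.coe_toMonoidHom, MulAut.conj_apply] at h0
          rwa [hku.eq, mul_inv_cancel_right] at h0
      exact hle D.w_lgen
    have hgp : g ∈ cPair Z a b := hg ▸ mul_mem (inv_mem D.w_pair) (mul_mem (mul_mem hkp D.w_pair) (inv_mem hkp))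
    have hg1 : g ≠ 1 := fun h => hne (by
      rw [hg, inv_mul_eq_one] at h
      exact (mul_inv_eq_iff_eq_mul.1 h.symm))
    have hall : Q ≤ el Z a := fun q hqQ => by
      refine D.W_free g hgL hgp hg1 q hqQ ?_
      obtain ⟨e₁, he₁, h₁⟩ : ∃ e ∈ el Z a, k⁻¹ * q * k = q * e := by
        have hq' : k⁻¹ * q * k ∈ Q := by
          have h0 := D.conj_mem X (k := k⁻¹) (inv_smul_eq_iff.2 hka.symm) hku.inv_left hqQ
          rwa [inv_inv] at h0
        refine ⟨_, inv_mem (htriv _ hq'), ?_⟩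
        rw [show k * (k⁻¹ * q * k) * k⁻¹ = q by group, mul_inv_rev, inv_inv, mul_inv_cancel_left]
      have hwq : w * q * w⁻¹ ∈ Q := D.conj_mem X hwa hwu hqQ
      have h2 : k * w * k⁻¹ * q * (k * w * k⁻¹)⁻¹ = k * (w * q * w⁻¹) * k⁻¹ * e₁ := by
        calc k * w * k⁻¹ * q * (k * w * k⁻¹)⁻¹ = k * w * (k⁻¹ * q * k) * w⁻¹ * k⁻¹ := by group
          _ = k * (w * q * w⁻¹) * k⁻¹ * (k * (w * e₁ * w⁻¹) * k⁻¹) := by rw [h₁]; group
          _ = _ := by
            rw [← (X.el_comm hwc he₁).eq, mul_inv_cancel_right, ← (X.el_comm hkc he₁).eq, mul_inv_cancel_right]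
      obtain ⟨e₂, he₂, h3⟩ : ∃ e ∈ el Z a, k * (w * q * w⁻¹) * k⁻¹ = w * q * w⁻¹ * e :=
        ⟨_, htriv _ hwq, (mul_inv_cancel_left _ _).symm⟩
      have h4 : g * q * g⁻¹ = q * (e₂ * e₁) := by
        calc g * q * g⁻¹ = w⁻¹ * (k * w * k⁻¹ * q * (k * w * k⁻¹)⁻¹) * w := by rw [hg]; group
          _ = q * (w⁻¹ * (e₂ * e₁) * w) := by rw [h2, h3]; group
          _ = q * (e₂ * e₁) := by
            rw [mul_assoc w⁻¹, (X.el_comm hwc (mul_mem he₂ he₁)).eq, inv_mul_cancel_left]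
      rw [h4, inv_mul_cancel_left]
      exact mul_mem he₂ he₁
    have h := Nat.le_of_dvd Nat.card_pos (Subgroup.card_dvd_of_le hall)
    rw [D.card_Q] at h
    exact absurd h (not_le.2 (lt_self_pow₀ (by omega) (by omega)))
  obtain ⟨A, hA⟩ : ∃ A : Subgroup G, A = Q ⊓ Subgroup.centralizer ({k} : Set G) := ⟨_, rfl⟩
  have hmemA : ∀ g, g ∈ A ↔ g ∈ Q ∧ Commute g k := fun g => by
    rw [hA, Subgroup.mem_inf, Subgroup.mem_centralizer_singleton_iff]
    exact Iff.rfl
  have helA : el Z a ≤ A := fun e he => (hmemA e).2 ⟨D.el_le he, X.el_comm hkc he⟩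
  have hcard : Nat.card Q ≤ Nat.card (el Z a) * Nat.card A :=
    Cube.card_le_mul_of_fibre (fun g : Q => (⟨_, htriv g g.2⟩ : el Z a)) (fun g : Q => (g : G)) A (fun g h e => by
      obtain ⟨r, hr⟩ : ∃ r, r = (g : G)⁻¹ * (k * g * k⁻¹) := ⟨_, rfl⟩
      have e' : (h : G)⁻¹ * (k * h * k⁻¹) = r := hr ▸ (congrArg Subtype.val e).symm
      have hgh := mul_mem (inv_mem g.2) h.2
      refine (hmemA _).2 ⟨hgh, (mul_inv_eq_iff_eq_mul.1 ?_).symm⟩
      calc k * ((g : G)⁻¹ * h) * k⁻¹ = (k * g * k⁻¹)⁻¹ * (k * h * k⁻¹) := by group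
        _ = (g * r)⁻¹ * (h * r) := by
          rw [show k * (g : G) * k⁻¹ = g * r by rw [hr, mul_inv_cancel_left],
            show k * (h : G) * k⁻¹ = h * r by rw [← e', mul_inv_cancel_left]]
        _ = r⁻¹ * ((g : G)⁻¹ * h * r) := by group
        _ = (g : G)⁻¹ * h := by
          rw [← (X.el_comm (D.comm_el _ hgh) (hr ▸ htriv g g.2)).eq, inv_mul_cancel_left])
      (fun g h _ e => Subtype.ext e)
  obtain ⟨c, hcA, hce⟩ : ∃ c ∈ A, c ∉ el Z a := by
    by_contra h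
    push Not at h
    have h1 := hcard.trans (Nat.mul_le_mul_left _ (Nat.le_of_dvd Nat.card_pos (Subgroup.card_dvd_of_le h)))
    rw [D.card_Q, ← pow_two] at h1
    exact absurd h1 (not_le.2 (Nat.pow_lt_pow_right (by omega) (by omega)))
  have hAQ : A = Q := D.eq_top_of_invariant X (fun g hg => ((hmemA g).1 hg).1) helA
    (fun j hj g hg => (hmemA _).2 ⟨D.conj_mem X (D.J_fix X hj) (D.J_commute_u X hj) ((hmemA g).1 hg).1,
      ((D.J_comm j hj k hkp).mul_left ((hmemA g).1 hg).2).mul_left (D.J_comm j hj k hkp).inv_left⟩)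
    (fun g hg => (hmemA _).2 ⟨D.conj_mem X hwa hwu ((hmemA g).1 hg).1,
      (hkw.symm.mul_left ((hmemA g).1 hg).2).mul_left hkw.symm.inv_left⟩) hcA hce
  refine M.eq_one_or_self X D hc hk hkp hku hkw fun y hy => ?_
  rcases eq_or_ne y a with rfl | hya
  · exact hka
  obtain ⟨g, hg, rfl⟩ := D.move y hy hya
  rw [← mul_smul, ← ((hmemA g).1 (hAQ.symm ▸ hg)).2.eq, mul_smul, hkb]

end Member

end Cfsg.Agent.Invol.Aschbacher.Last
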