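import Cfsg.Agent.Lib.Invol.Aschbacher.Last.Cube.Base
import Cfsg.Agent.Lib.Invol.Aschbacher.Last.TwoPart
import Mathlib.GroupTheory.Perm.Cycle.Type

/-!
# The two part centralised by `w`

The members centralising `w` generate a group whose two part `P` at `a` is regular on the other fixed points of `w`.
The elements of `P` moved by `u` inside `el Z a` form a group `W` inverted by `u` with all of `el Z a` as squares,
and this is not the whole of `P`, since some middle of a fixed point of `w` lies at `b`.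
-/

set_option autoImplicit false
set_option linter.unusedSectionVars false

namespace Cfsg.Agent.Invol.Aschbacher.Last

open MulAction Subgroup
open Cfsg.Agent.Invol.Bender (cen conj_smul_smul)

universe u

variable {G : Type u} [Group G] [Finite G] {Ω : Type u} [MulAction G Ω] {Z : Set G}

/-- The two part centralised by `w` and its part moved by `u` inside `el Z a`. -/
structure Member (Z : Set G) (u : G) (a : Ω) (J : Subgroup G) (w : G) (P W : Subgroup G) : Prop where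
  two : IsPGroup 2 P
  fix : ∀ g ∈ P, g • a = a
  comm_el : ∀ g ∈ P, ∀ z ∈ zAt Z a, Commute z g
  comm_w : ∀ g ∈ P, Commute g w
  norm : ∀ k : G, k • a = a → Commute k w → ∀ g ∈ P, k * g * k⁻¹ ∈ P
  cent : ∀ x : G, (∀ y : Ω, x • y = y → u • y = y) → (∀ y : Ω, u • y = y → x • y = y) →
    ∀ g ∈ P, Commute g x → g ∈ el Z a
  mem_W : ∀ g, g ∈ W ↔ g ∈ P ∧ g⁻¹ * (u * g * u⁻¹) ∈ el Z a
  el_le : el Z a ≤ W
  ne : W ≠ P
  exists_outside : ∃ d ∈ W, d ∉ el Z a
  orbit : ∀ c ∈ W, c ∉ el Z a → ∀ x ∈ W, x ∉ el Z a → ∃ j ∈ J, ∃ e ∈ el Z a, x = j * c * j⁻¹ * e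
  inverted : ∀ g ∈ W, u * g * u⁻¹ = g⁻¹
  sqrt : ∀ e ∈ el Z a, ∃ g ∈ W, g * g = e
  card_le : Nat.card (el Z a) * Nat.card (el Z a) ≤ Nat.card W

namespace CubeData

variable {u : G} {a b : Ω} {Q J : Subgroup G} {w : G} (X : Setting G Ω Z) (D : CubeData Z u a b Q J w)
include X D

/-- A fixed point of `w` moved by `u` whose middle fixes `b`. -/
theorem exists_middle_right (hc : IsCube Z Ω) :
    ∃ y : Ω, ∃ s ∈ zAt Z b, w • y = y ∧ u • y ≠ y ∧ Commute s u ∧ (u * s) • y = y := by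
  classical
  have S := X.hyp
  have := S.finite_points
  have : Fact (Nat.Prime 2) := ⟨Nat.prime_two⟩
  have hu := D.invol
  obtain ⟨z, hz⟩ := S.zAt_nonempty a
  have hzu : Commute z u := X.cent u hu D.outside a D.fix_left z hz
  obtain ⟨hv, hvZ, -, -⟩ := S.mul_notMem hu D.outside hz.1 hzu
  have hva : (u * z) • a = a := by rw [mul_smul, hz.2, D.fix_left]
  obtain ⟨hwa, hwb, hwc⟩ := mem_cPair.1 D.w_pair
  obtain ⟨p, hp, hp2, hwp⟩ := D.w_order
  have : Fact p.Prime := ⟨hp⟩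
  have hwv : Commute w (u * z) := (commute_of_mem_lgen D.w_lgen).mul_right (hwc z hz).symm
  have hmaps : ∀ x, x ∈ others (u * z) a ↔ w • x ∈ others (u * z) a := fun x => by
    constructor
    · rintro ⟨h1, h2⟩
      refine ⟨?_, fun h => h2 (MulAction.injective w (h.trans hwa.symm))⟩
      rw [← mul_smul, ← hwv.eq, mul_smul, h1]
    · rintro ⟨h1, h2⟩
      refine ⟨MulAction.injective w (show w • (u * z) • x = w • x from ?_), fun h => h2 (by rw [h, hwa])⟩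
      rw [← mul_smul, hwv.eq, mul_smul, h1]
  obtain ⟨σ, hσ⟩ : ∃ σ : Equiv.Perm ↥(others (u * z) a),
      ∀ x : ↥(others (u * z) a), ((σ x : ↥(others (u * z) a)) : Ω) = w • (x : Ω) :=
    ⟨(MulAction.toPerm w).subtypePerm fun x => (hmaps x).symm, fun x => rfl⟩
  have := Fintype.ofFinite ↥(others (u * z) a)
  have hσp : ∀ n : ℕ, ∀ x, (((σ ^ n) x : ↥(others (u * z) a)) : Ω) = w ^ n • (x : Ω) := fun n => by
    induction n with
    | zero => simp
    | succ n ih => intro x; rw [pow_succ', Equiv.Perm.mul_apply, hσ, ih, ← mul_smul, ← pow_succ']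
  obtain ⟨x, hx⟩ : ∃ x, σ x = x := by
    obtain ⟨n, hn⟩ := D.isPGroup X |>.exists_card_eq
    refine Equiv.Perm.exists_fixed_point_of_prime (p := p) (n := 1) ?_ (Equiv.ext fun x => Subtype.ext ?_)
    · rw [← Nat.card_eq_fintype_card, Nat.card_coe_set_eq, hc _ hv hvZ a hva, ← D.card_Q, hn]
      intro h
      have h2 := (Nat.prime_dvd_prime_iff_eq hp Nat.prime_two).1 (hp.dvd_of_dvd_pow h)
      rw [h2] at hp2
      exact absurd hp2 (by decide)
    · rw [pow_one, hσp, ← hwp, pow_orderOf_eq_one, one_smul]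
      rfl
  have hwx : w • (x : Ω) = x := (hσ x).symm.trans (congrArg Subtype.val hx)
  obtain ⟨hvx, hxa⟩ : (u * z) • (x : Ω) = x ∧ (x : Ω) ≠ a := x.2
  have hux : u • (x : Ω) ≠ x := fun h => hxa (S.fix_unique hz.1 (MulAction.injective u
    (show u • z • (x : Ω) = u • (x : Ω) by rw [← mul_smul, hvx, h])) hz.2)
  obtain ⟨m, hm, hmab⟩ := S.exists_swapper_at D.ne
  have hmu : Commute m u := X.commute_swap D.ne (X.invol_mem_cPair hu D.fix_left D.fix_right) ⟨hm, hmab⟩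
  have hmw : Commute m w := X.commute_swap D.ne D.w_pair ⟨hm, hmab⟩
  refine ⟨m • (x : Ω), m * z * m⁻¹, ⟨S.conj_mem m z hz.1, by rw [← hmab, conj_smul_smul, hz.2]⟩, ?_, ?_, ?_, ?_⟩
  · rw [← mul_smul, ← hmw.eq, mul_smul, hwx]
  · exact fun h => hux (MulAction.injective m (show m • u • (x : Ω) = m • (x : Ω) by
      rw [← mul_smul, hmu.eq, mul_smul, h]))
  · exact (hmu.mul_left hzu).mul_left hmu.inv_left
  · rw [show u * (m * z * m⁻¹) = m * (u * z) * m⁻¹ by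
      rw [← mul_assoc, ← mul_assoc, ← hmu.eq, mul_assoc m u z], conj_smul_smul, hvx]

/-- The two part centralised by `w`. -/
theorem exists_two_part : ∃ P : Subgroup G, IsPGroup 2 P ∧ el Z a ≤ P ∧
    (∀ g ∈ P, g • a = a ∧ Commute g w ∧ ∀ z ∈ zAt Z a, Commute z g) ∧
    (∀ k : G, k • a = a → Commute k w → ∀ g ∈ P, k * g * k⁻¹ ∈ P) ∧
    (∀ y : Ω, w • y = y → y ≠ a → ∃ g ∈ P, g • b = y) ∧ ∀ g ∈ P, g • b = b → g = 1 := by
  have S := X.hyp
  have := X.faithful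
  obtain ⟨hwa, hwb, hwc⟩ := mem_cPair.1 D.w_pair
  obtain ⟨M, hM⟩ : ∃ M, M = Subgroup.centralizer ({w} : Set G) := ⟨_, rfl⟩
  have hmem : ∀ g, g ∈ M ↔ Commute g w := fun g => by
    rw [hM, Subgroup.mem_centralizer_singleton_iff]
    exact Iff.rfl
  have hMtop : M ≠ ⊤ := fun h => D.w_ne X (FaithfulSMul.eq_of_smul_eq_smul fun x : Ω => by
    obtain ⟨g, rfl⟩ := S.exists_smul_eq a x
    rw [one_smul, ← mul_smul, ← ((hmem g).1 (h ▸ Subgroup.mem_top g)).eq, mul_smul, hwa])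
  obtain ⟨x, hx, y, hy, hxy, hxyc⟩ := X.four a
  obtain ⟨t, ht⟩ := S.zAt_nonempty b
  have F := S.frame X.closed hMtop ((hmem x).2 (hwc x hx)) hx ((hmem t).2 (X.commute_other D.ne D.w_pair ht)) ht D.ne
    ⟨x, (hmem x).2 (hwc x hx), y, (hmem y).2 (hwc y hy), hx.1, hy.1, hxy, hxyc⟩
  have T := F.sub
  have hzM : ∀ z ∈ Z, Commute z w → z ∈ zgen Z M := fun z hz h => mem_zgen hz ((hmem z).2 h)
  have hcen : ∀ y : Ω, y ∈ cen Ω (zgen Z M) ↔ w • y = y := fun y => by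
    refine ⟨fun ⟨i, hi, hi2, hiy⟩ => ?_, fun hy => ?_⟩
    · exact S.fix_of_commute (T.zonly i hi hi2) hiy ((hmem i).1 (F.le hi)).symm
    rcases eq_or_ne y a with rfl | hya
    · exact ⟨x, hzM x hx.1 (hwc x hx), S.invol x hx.1, hx.2⟩
    obtain ⟨s, hs⟩ := S.zAt_nonempty y
    exact ⟨s, hzM s hs.1 (X.commute_other hya.symm (mem_cPair.2 ⟨hwa, hy, hwc⟩) hs), S.invol s hs.1, hs.2⟩
  obtain ⟨P, hP, hP2, -, hPtr, hPfree, hPc⟩ := T.exists_twoPart X.realFree
    (Subgroup.closure_mono fun z hz => (⟨hz.1, mem_zgen hz.1 hz.2⟩ : z ∈ Z ∧ z ∈ zgen Z M)) ((hcen a).2 hwa)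
  refine ⟨P, hP2, fun e he => ?_, fun g hg => ⟨((hP g).1 hg).2.1, (hmem g).1 (F.le ((hP g).1 hg).1),
    fun z hz => hPc g hg z hz (hzM z hz.1 (hwc z hz))⟩, fun k hka hkw g hg => ?_,
    fun y hy hya => hPtr b ((hcen b).2 hwb) D.ne.symm y ((hcen y).2 hy) hya,
    fun g hg hgb => hPfree g hg b ((hcen b).2 hwb) D.ne.symm hgb⟩
  · refine (hP e).2 ⟨?_, X.el_smul he, 1, by rw [pow_one, pow_two, X.el_mul_self he]⟩
    rcases X.mem_el.1 he with rfl | h
    · exact one_mem _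
    · exact hzM e h.1 (hwc e h)
  · obtain ⟨h1, h2, n, hn⟩ := (hP g).1 hg
    exact (hP _).2 ⟨(Subgroup.mem_normalizer_iff.1 (F.norm ((hmem k).2 hkw)) g).1 h1,
      by rw [mul_smul, mul_smul, inv_smul_eq_iff.2 hka.symm, h2, hka],
      n, by rw [conj_pow, hn, mul_one, mul_inv_cancel]⟩

/-- The members `P` and `W`. -/
theorem exists_member (hc : IsCube Z Ω) : ∃ P W : Subgroup G, Member Z u a J w P W := by
  classical
  have S := X.hyp
  obtain ⟨P, hP2, helP, hPp, hnorm, htr, hfree⟩ := D.exists_two_part X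
  have hu := D.invol
  have huu := mul_self_of_orderOf_two hu
  have hui := inv_of_orderOf_two hu
  have helu : ∀ e ∈ el Z a, Commute e u := fun e he =>
    X.el_comm (X.cent u hu D.outside a D.fix_left) he
  have helP' : ∀ g ∈ P, ∀ e ∈ el Z a, Commute e g := fun g hg e he => X.el_comm (hPp g hg).2.2 he
  have hwu : Commute u w := (commute_of_mem_lgen D.w_lgen).symm
  obtain ⟨W, hW⟩ : ∃ W : Subgroup G, ∀ g, g ∈ W ↔ g ∈ P ∧ g⁻¹ * (u * g * u⁻¹) ∈ el Z a := by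
    refine ⟨{ carrier := {g | g ∈ P ∧ g⁻¹ * (u * g * u⁻¹) ∈ el Z a}
              one_mem' := ⟨one_mem P, ?one⟩
              mul_mem' := ?mul
              inv_mem' := ?inv }, fun g => Iff.rfl⟩
    case one =>
      rw [inv_one, one_mul, mul_one, mul_inv_cancel]
      exact one_mem _
    case mul =>
      rintro g h ⟨hg, hg'⟩ ⟨hh, hh'⟩
      refine ⟨mul_mem hg hh, ?_⟩
      rw [show (g * h)⁻¹ * (u * (g * h) * u⁻¹) = h⁻¹ * (g⁻¹ * (u * g * u⁻¹)) * (u * h * u⁻¹) by group,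
        ((helP' _ (inv_mem hh) _ hg').symm).eq, mul_assoc]
      exact mul_mem hg' hh'
    case inv =>
      rintro g ⟨hg, hg'⟩
      refine ⟨inv_mem hg, ?_⟩
      rw [show g⁻¹⁻¹ * (u * g⁻¹ * u⁻¹) = g * (g⁻¹ * (u * g * u⁻¹))⁻¹ * g⁻¹ by group,
        ((helP' g hg _ (inv_mem hg')).symm).eq, mul_inv_cancel_right]
      exact inv_mem hg'
  have helW : el Z a ≤ W := fun e he => (hW e).2 ⟨helP he, by
    rw [← (helu e he).eq, mul_inv_cancel_right, inv_mul_cancel]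
    exact one_mem _⟩
  have hcent : ∀ x : G, (∀ y : Ω, x • y = y → u • y = y) → (∀ y : Ω, u • y = y → x • y = y) →
      ∀ g ∈ P, Commute g x → g ∈ el Z a := fun x hx hx' g hg hgx => by
    have hwgb : w • g • b = g • b := by
      rw [← mul_smul, ← (hPp g hg).2.1.eq, mul_smul, (mem_cPair.1 D.w_pair).2.1]
    have hugb : u • g • b = g • b := hx _ (by rw [← mul_smul, ← hgx.eq, mul_smul, hx' b D.fix_right])
    rcases D.w_line _ hugb hwgb with h | ⟨e, he, heb⟩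
    · exact absurd (MulAction.injective g (h.trans (hPp g hg).1.symm)) D.ne.symm
    · have h1 := hfree (e⁻¹ * g) (mul_mem (inv_mem (helP he)) hg) (by rw [mul_smul, ← heb, inv_smul_smul])
      rwa [← inv_mul_eq_one.1 h1]
  have hne : W ≠ P := fun h => by
    obtain ⟨y, s, hs, hwy, huy, hsu, hsy⟩ := D.exists_middle_right X hc
    obtain ⟨g, hg, rfl⟩ := htr y hwy (fun e => huy (e ▸ D.fix_left))
    obtain ⟨-, he⟩ := (hW g).1 (h ▸ hg)
    obtain ⟨e, hee⟩ : ∃ e, e = g⁻¹ * (u * g * u⁻¹) := ⟨_, rfl⟩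
    rw [← hee] at he
    have hug : u • g • b = e • g • b := by
      rw [← mul_smul e, ((helP' g hg e he)).eq, hee, mul_inv_cancel_left, mul_smul, mul_smul, hui, D.fix_right]
    rcases X.mem_el.1 he with h1 | h1
    · exact huy (by rw [hug, h1, one_smul])
    · have h2 : (u * e) • g • b = g • b := by
        rw [← (helu e he).eq, mul_smul, hug, ← mul_smul e, X.el_mul_self he, one_smul]
      have h3 := X.middle_fix_unique hu D.outside huy h1.1 (helu e he) h2 hs.1 hsu hsy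
      exact D.ne (S.fix_unique hs.1 (h3 ▸ h1.2) hs.2)
  obtain ⟨d, hdW, hde, hdi⟩ : ∃ d ∈ W, d ∉ el Z a ∧ u * d * u⁻¹ = d⁻¹ := by
    obtain ⟨g, hg, hgW⟩ : ∃ g ∈ P, g ∉ W := by
      by_contra h
      push Not at h
      exact hne (le_antisymm (fun g hg => ((hW g).1 hg).1) h)
    obtain ⟨h, hh⟩ : ∃ h, h = g⁻¹ * (u * g * u⁻¹) := ⟨_, rfl⟩
    have hhP : h ∈ P := hh ▸ mul_mem (inv_mem hg) (hnorm u D.fix_left hwu g hg)
    have hhe : h ∉ el Z a := fun e => hgW ((hW g).2 ⟨hg, hh ▸ e⟩)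
    have hinv : u * h * u⁻¹ = h⁻¹ := by
      rw [hh, hui]
      calc u * (g⁻¹ * (u * g * u)) * u = u * g⁻¹ * u * g * (u * u) := by group
        _ = (u * g⁻¹ * u⁻¹) * g := by rw [huu, mul_one, hui]
        _ = _ := by simp [mul_assoc, hui]
    have hex : ∃ i : ℕ, h ^ 2 ^ i ∈ el Z a := by
      obtain ⟨n, hn⟩ := hP2 ⟨h, hhP⟩
      exact ⟨n, by rw [show h ^ 2 ^ n = 1 from congrArg Subtype.val hn]; exact one_mem _⟩
    obtain ⟨i, hi⟩ : ∃ i, Nat.find hex = i + 1 := Nat.exists_eq_succ_of_ne_zero fun e => hhe (by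
      have := Nat.find_spec hex
      rwa [e, pow_zero, pow_one] at this)
    refine ⟨h ^ 2 ^ i, (hW _).2 ⟨pow_mem hhP _, ?_⟩, Nat.find_min hex (by omega), ?_⟩
    · rw [← conj_pow, hinv, inv_pow, ← mul_inv_rev, ← pow_two, ← pow_mul, ← pow_succ, ← hi]
      exact inv_mem (Nat.find_spec hex)
    · rw [← conj_pow, hinv, inv_pow]
  have hθne : ∀ x ∈ W, x ∉ el Z a → x⁻¹ * (u * x * u⁻¹) ∈ zAt Z a := fun x hx hxe =>
    (X.mem_el.1 ((hW x).1 hx).2).resolve_left fun h => hxe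
      (hcent u (fun _ => id) (fun _ => id) x ((hW x).1 hx).1 (mul_inv_eq_iff_eq_mul.1 (inv_mul_eq_one.1 h).symm).symm)
  have horb : ∀ c ∈ W, c ∉ el Z a → ∀ x ∈ W, x ∉ el Z a →
      ∃ j ∈ J, ∃ e ∈ el Z a, x = j * c * j⁻¹ * e := fun c hc hce x hx hxe => by
    obtain ⟨j, hj, hjt⟩ := D.J_trans _ (hθne c hc hce) _ (hθne x hx hxe)
    obtain ⟨c', hc'⟩ : ∃ c', c' = j * c * j⁻¹ := ⟨_, rfl⟩
    have hc'P : c' ∈ P := hc' ▸ hnorm j (D.J_fix X hj) (D.J_commute_w X hj) c ((hW c).1 hc).1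
    have hju := D.J_commute_u X hj
    have h1 : c'⁻¹ * (u * c' * u⁻¹) = x⁻¹ * (u * x * u⁻¹) := by
      rw [← hjt, hc']
      calc (j * c * j⁻¹)⁻¹ * (u * (j * c * j⁻¹) * u⁻¹) = j * c⁻¹ * j⁻¹ * ((u * j) * c * (u * j)⁻¹) := by group
        _ = j * c⁻¹ * j⁻¹ * ((j * u) * c * (j * u)⁻¹) := by rw [hju.eq]
        _ = _ := by group
    refine ⟨j, hj, c'⁻¹ * x, hcent u (fun _ => id) (fun _ => id) _
      (mul_mem (inv_mem hc'P) ((hW x).1 hx).1) ?_, by rw [← hc', mul_inv_cancel_left]⟩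
    obtain ⟨e, he, hex'⟩ : ∃ e ∈ el Z a, u * x * u⁻¹ = x * e :=
      ⟨_, ((hW x).1 hx).2, (mul_inv_cancel_left _ _).symm⟩
    have hec' : u * c' * u⁻¹ = c' * e := by
      rw [hex', inv_mul_cancel_left] at h1
      exact inv_mul_eq_iff_eq_mul.1 h1
    refine (mul_inv_eq_iff_eq_mul.1 ?_).symm
    calc u * (c'⁻¹ * x) * u⁻¹ = (u * c' * u⁻¹)⁻¹ * (u * x * u⁻¹) := by group
      _ = (c' * e)⁻¹ * (x * e) := by rw [hec', hex']
      _ = e⁻¹ * (c'⁻¹ * x) * e := by group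
      _ = c'⁻¹ * x := by
        rw [mul_assoc, ← (helP' _ (mul_mem (inv_mem hc'P) ((hW x).1 hx).1) e he).eq, inv_mul_cancel_left]
  have hinvW : ∀ g ∈ W, u * g * u⁻¹ = g⁻¹ := fun g hg => by
    by_cases hge : g ∈ el Z a
    · rw [← (helu g hge).eq, mul_inv_cancel_right, inv_eq_of_mul_eq_one_right (X.el_mul_self hge)]
    · exact Cube.inv_orbit (fun e he => X.el_mul_self he) (fun j hj => (D.J_commute_u X hj).symm)
        (fun e he => (helu e he).symm) hdi (fun e he => helP' g ((hW g).1 hg).1 e he) (horb d hdW hde g hg hge)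
  have hddz : d * d ∈ zAt Z a := by
    have h1 := hθne d hdW hde
    rw [hdi, ← mul_inv_rev] at h1
    rwa [inv_of_orderOf_two (orderOf_inv (d * d) ▸ X.hyp.invol _ h1.1)] at h1
  have hsqrt : ∀ e ∈ el Z a, ∃ g ∈ W, g * g = e := fun e he => by
    rcases X.mem_el.1 he with rfl | h
    · exact ⟨1, one_mem W, one_mul 1⟩
    obtain ⟨j, hj, hje⟩ := D.J_trans _ hddz e h
    refine ⟨j * d * j⁻¹, (hW _).2 ⟨hnorm j (D.J_fix X hj) (D.J_commute_w X hj) d ((hW d).1 hdW).1, ?_⟩,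
      by rw [← hje]; group⟩
    have hju := D.J_commute_u X hj
    rw [show (j * d * j⁻¹)⁻¹ * (u * (j * d * j⁻¹) * u⁻¹) = j * d⁻¹ * j⁻¹ * ((u * j) * d * (u * j)⁻¹) by group,
      ← hju.eq, show j * d⁻¹ * j⁻¹ * ((j * u) * d * (j * u)⁻¹) = j * (d⁻¹ * (u * d * u⁻¹)) * j⁻¹ by group]
    exact D.conj_el X (D.J_fix X hj) ((hW d).1 hdW).2
  refine ⟨P, W, hP2, fun g hg => (hPp g hg).1, fun g hg => (hPp g hg).2.2, fun g hg => (hPp g hg).2.1, hnorm, hcent,
    hW, helW, hne, ⟨d, hdW, hde⟩, horb, hinvW, hsqrt, ?_⟩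
  choose r hr hr2 using fun e : el Z a => hsqrt e e.2
  rw [← Nat.card_prod]
  refine Nat.card_le_card_of_injective (fun p => (⟨r p.1 * p.2, mul_mem (hr p.1) (helW p.2.2)⟩ : W)) ?_
  rintro ⟨e, f⟩ ⟨e', f'⟩ h
  have h' : r e * (f : G) = r e' * f' := congrArg Subtype.val h
  have key : ∀ e f : el Z a, r e * (f : G) * (r e * f) = e := fun e f => by
    rw [D.sq_eq_of_coset X f.2 (helP' _ ((hW _).1 (hr e)).1 f f.2) rfl, hr2]
  have hee : e = e' := Subtype.ext (by rw [← key e f, h', key e' f'])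
  subst hee
  exact Prod.ext rfl (Subtype.ext (mul_left_cancel h'))

end CubeData

end Cfsg.Agent.Invol.Aschbacher.Last
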