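import Cfsg.Agent.Lib.Invol.Aschbacher.Last.Cube.Fix

/-!
# `W` centralises `Q`

`Q` with `u` is the largest normal 2-subgroup of the centraliser of `u` in `cHull a`, which `W` normalises.  So `W`
acts on `Q` and, commuting with `w`, centralises it.
-/

set_option autoImplicit false
set_option linter.unusedSectionVars false

namespace Cfsg.Agent.Invol.Aschbacher.Last

open MulAction Subgroup
open scoped Pointwise

universe u

variable {G : Type u} [Group G] [Finite G] {Ω : Type u} [MulAction G Ω] {Z : Set G}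

omit [Finite G] in
/-- A subgroup centralised by an involution extended by it. -/
theorem exists_extend {R : Subgroup G} {t : G} (ht : t * t = 1) (hR : ∀ x ∈ R, Commute x t) :
    ∃ S : Subgroup G, ∀ x, x ∈ S ↔ x ∈ R ∨ x * t ∈ R := by
  refine ⟨{ carrier := {x | x ∈ R ∨ x * t ∈ R}
            one_mem' := Or.inl R.one_mem
            mul_mem' := ?mul
            inv_mem' := ?inv }, fun x => Iff.rfl⟩
  case mul =>
    rintro x y (hx | hx) (hy | hy)
    · exact Or.inl (R.mul_mem hx hy)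
    · exact Or.inr (by rw [mul_assoc]; exact R.mul_mem hx hy)
    · refine Or.inr ?_
      rw [show x * y * t = x * (y * t) by group, (hR y hy).eq, ← mul_assoc]
      exact R.mul_mem hx hy
    · refine Or.inl ?_
      have h := R.mul_mem hx hy
      rwa [mul_assoc x t, ← (hR _ hy).eq, mul_assoc y, ht, mul_one] at h
  case inv =>
    rintro x (hx | hx)
    · exact Or.inl (R.inv_mem hx)
    · refine Or.inr ?_
      have h := R.inv_mem hx
      rw [show x⁻¹ * t = t * (x * t)⁻¹ * t by group, ← (hR _ h).eq, mul_assoc, ht, mul_one]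
      exact h

namespace Member

variable {u : G} {a b : Ω} {Q J : Subgroup G} {w : G} {P W : Subgroup G} (M : Member Z u a J w P W)
  (X : Setting G Ω Z) (D : CubeData Z u a b Q J w)
include M X D

theorem mem_cHull_of_mem {g : G} (hg : g ∈ W) : g ∈ cHull Z a :=
  mem_cHull.2 ⟨M.fix g (M.le_P X D hg), M.comm_el g (M.le_P X D hg)⟩

/-- `W` moves `u` inside its coset of the squares. -/
theorem conj_u {g : G} (hg : g ∈ W) : g * u * g⁻¹ = g * g * u := by
  have hui := inv_of_orderOf_two D.invol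
  have h := M.inverted g⁻¹ (inv_mem hg)
  rw [inv_inv, hui] at h
  calc g * u * g⁻¹ = g * (u * g⁻¹ * u) * u⁻¹ := by group
    _ = _ := by rw [h, hui]

/-- `Q` with `u` is the largest normal 2-subgroup. -/
theorem le_extend (hc : IsCube Z Ω) {T S : Subgroup G} (hT : ∀ x, x ∈ T ↔ x ∈ Q ∨ x * u ∈ Q)
    (hS : IsPGroup 2 S) (hSH : ∀ k ∈ S, k ∈ cHull Z a ∧ Commute k u) (hTS : T ≤ S)
    (hn : ∀ h : G, h ∈ cHull Z a → Commute h u → ∀ k ∈ S, h * k * h⁻¹ ∈ S) : S ≤ T := by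
  intro k hk
  obtain ⟨hkH, hku⟩ := hSH k hk
  obtain ⟨hka, hkc⟩ := mem_cHull.1 hkH
  obtain ⟨hwa, hwb, hwc⟩ := mem_cPair.1 D.w_pair
  have hwu := commute_of_mem_lgen D.w_lgen
  have hukb : u • k • b = k • b := by rw [← mul_smul, ← hku.eq, mul_smul, D.fix_right]
  obtain ⟨r, hr, hrb⟩ := D.move _ hukb fun h => D.ne (MulAction.injective k (hka.trans h.symm))
  have hrS : r ∈ S := hTS ((hT r).2 (Or.inl hr))
  obtain ⟨K, hK⟩ : ∃ K : Subgroup G, K = S ⊓ cPair Z a b := ⟨_, rfl⟩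
  have hmemK : ∀ g, g ∈ K ↔ g ∈ S ∧ g ∈ cPair Z a b := fun g => by rw [hK, Subgroup.mem_inf]
  have hk' : r⁻¹ * k ∈ K := (hmemK _).2 ⟨mul_mem (inv_mem hrS) hk, mem_cPair.2
    ⟨(mem_cHull.1 (mul_mem (inv_mem (D.mem_cHull_of_mem X hr)) hkH)).1, by rw [mul_smul, ← hrb, inv_smul_smul],
      (mem_cHull.1 (mul_mem (inv_mem (D.mem_cHull_of_mem X hr)) hkH)).2⟩⟩
  have hKfix : ∀ g ∈ K, g • a = a ∧ Commute g u ∧ ∀ z ∈ zAt Z a, Commute z g := fun g hg =>
    ⟨(mem_cPair.1 ((hmemK g).1 hg).2).1, (hSH g ((hmemK g).1 hg).1).2, (mem_cPair.1 ((hmemK g).1 hg).2).2.2⟩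
  obtain ⟨A, hA⟩ : ∃ A : Subgroup G, ∀ q, q ∈ A ↔ q ∈ Q ∧ ∀ g ∈ K, q⁻¹ * (g * q * g⁻¹) ∈ el Z a := by
    refine ⟨{ carrier := {q | q ∈ Q ∧ ∀ g ∈ K, q⁻¹ * (g * q * g⁻¹) ∈ el Z a}
              one_mem' := ⟨one_mem Q, fun g _ => ?one⟩
              mul_mem' := ?mul
              inv_mem' := ?inv }, fun g => Iff.rfl⟩
    case one => simp [one_mem]
    case mul =>
      rintro q q' ⟨hq, h⟩ ⟨hq', h'⟩
      refine ⟨mul_mem hq hq', fun g hg => ?_⟩
      rw [show (q * q')⁻¹ * (g * (q * q') * g⁻¹) = q'⁻¹ * (q⁻¹ * (g * q * g⁻¹)) * (g * q' * g⁻¹) by group,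
        ((X.el_comm (D.comm_el _ (inv_mem hq')) (h g hg)).symm).eq, mul_assoc]
      exact mul_mem (h g hg) (h' g hg)
    case inv =>
      rintro q ⟨hq, h⟩
      refine ⟨inv_mem hq, fun g hg => ?_⟩
      rw [show q⁻¹⁻¹ * (g * q⁻¹ * g⁻¹) = q * (q⁻¹ * (g * q * g⁻¹))⁻¹ * q⁻¹ by group,
        ((X.el_comm (D.comm_el _ hq) (inv_mem (h g hg))).symm).eq, mul_inv_cancel_right]
      exact inv_mem (h g hg)
  obtain ⟨c, hcQ, hce, hcK⟩ := Cube.exists_fixed_coset (T := K) (A := Q) (B := el Z a)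
    (hS.to_le (hK ▸ inf_le_left)) (D.isPGroup X) D.el_le
    (fun h => by
      have h1 := D.card_Q
      rw [← h] at h1
      exact absurd h1 (lt_self_pow₀ (by have := D.four_le X; omega) (by omega)).ne)
    (fun g hg q hq => D.conj_mem X (hKfix g hg).1 (hKfix g hg).2.1 hq)
    (fun g hg q hq => D.conj_el X (hKfix g hg).1 hq)
  have hAQ : A = Q := D.eq_top_of_invariant X (fun q hq => ((hA q).1 hq).1)
    (fun e he => (hA e).2 ⟨D.el_le he, fun g hg => mul_mem (inv_mem he) (D.conj_el X (hKfix g hg).1 he)⟩)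
    (fun j hj q hq => (hA _).2 ⟨D.conj_mem X (D.J_fix X hj) (D.J_commute_u X hj) ((hA q).1 hq).1, fun g hg => by
      have hjg : Commute j g := D.J_comm j hj g ((hmemK g).1 hg).2
      rw [show (j * q * j⁻¹)⁻¹ * (g * (j * q * j⁻¹) * g⁻¹) = j * q⁻¹ * j⁻¹ * ((g * j) * q * (g * j)⁻¹) by group,
        ← hjg.eq, show j * q⁻¹ * j⁻¹ * ((j * g) * q * (j * g)⁻¹) = j * (q⁻¹ * (g * q * g⁻¹)) * j⁻¹ by group]
      exact D.conj_el X (D.J_fix X hj) (((hA q).1 hq).2 g hg)⟩)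
    (fun q hq => (hA _).2 ⟨D.conj_mem X hwa hwu ((hA q).1 hq).1, fun g hg => by
      have hw' : w⁻¹ ∈ cHull Z a := inv_mem (X.cPair_le_cHull a b D.w_pair)
      have hg' : w⁻¹ * g * w⁻¹⁻¹ ∈ K := (hmemK _).2 ⟨hn _ hw' hwu.inv_left g ((hmemK g).1 hg).1,
        mul_mem (mul_mem (inv_mem D.w_pair) ((hmemK g).1 hg).2) (inv_mem (inv_mem D.w_pair))⟩
      rw [show (w * q * w⁻¹)⁻¹ * (g * (w * q * w⁻¹) * g⁻¹) =
        w * (q⁻¹ * ((w⁻¹ * g * w⁻¹⁻¹) * q * (w⁻¹ * g * w⁻¹⁻¹)⁻¹)) * w⁻¹ by group]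
      exact D.conj_el X hwa (((hA q).1 hq).2 _ hg')⟩)
    ((hA c).2 ⟨hcQ, hcK⟩) hce
  obtain ⟨i, hi⟩ := hS ⟨_, ((hmemK _).1 hk').1⟩
  rcases M.eq_one_or_self_of_trivial X D hc ⟨i, congrArg Subtype.val hi⟩ ((hmemK _).1 hk').2 (hKfix _ hk').2.1
    (fun q hq => ((hA q).1 (hAQ.symm ▸ hq)).2 _ hk') with h | h
  · rw [inv_mul_eq_one] at h
    exact (hT k).2 (Or.inl (h ▸ hr))
  · refine (hT k).2 (Or.inr ?_)
    rw [inv_mul_eq_iff_eq_mul.1 h, mul_assoc, mul_self_of_orderOf_two D.invol, mul_one]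
    exact hr

/-- `W` normalises `Q` with `u`. -/
theorem norm_extend (hc : IsCube Z Ω) {T : Subgroup G} (hT : ∀ x, x ∈ T ↔ x ∈ Q ∨ x * u ∈ Q) {g : G} (hg : g ∈ W)
    {x : G} (hx : x ∈ T) : g * x * g⁻¹ ∈ T := by
  have huu := mul_self_of_orderOf_two D.invol
  obtain ⟨H, hH⟩ : ∃ H : Subgroup G, H = cHull Z a ⊓ Subgroup.centralizer ({u} : Set G) := ⟨_, rfl⟩
  have hmemH : ∀ h, h ∈ H ↔ h ∈ cHull Z a ∧ Commute h u := fun h => by
    rw [hH, Subgroup.mem_inf, Subgroup.mem_centralizer_singleton_iff]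
    exact Iff.rfl
  have huH : u ∈ H := (hmemH u).2 ⟨X.invol_mem_cHull D.invol D.fix_left, Commute.refl u⟩
  have hTH : T ≤ H := fun t ht => by
    have h1 : ∀ q ∈ Q, q ∈ H := fun q hq => (hmemH q).2 ⟨D.mem_cHull_of_mem X hq, D.commute_u X hq⟩
    rcases (hT t).1 ht with h | h
    · exact h1 t h
    · have := mul_mem (h1 _ h) (inv_mem huH)
      rwa [mul_inv_cancel_right] at this
  have hTn : ∀ h ∈ H, ∀ t ∈ T, h * t * h⁻¹ ∈ T := fun h hh t ht => by
    obtain ⟨hha, hhu⟩ := (hmemH h).1 hh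
    rcases (hT t).1 ht with h1 | h1
    · exact (hT _).2 (Or.inl (D.conj_mem X (mem_cHull.1 hha).1 hhu h1))
    · refine (hT _).2 (Or.inr ?_)
      have h2 := D.conj_mem X (mem_cHull.1 hha).1 hhu h1
      rwa [show h * (t * u) * h⁻¹ = h * t * h⁻¹ * (h * u * h⁻¹) by group, hhu.eq, mul_inv_cancel_right] at h2
  have hgH : ∀ h ∈ H, ∀ k, k ∈ W → k * h * k⁻¹ ∈ H := fun h hh k hk => by
    obtain ⟨hha, hhu⟩ := (hmemH h).1 hh
    refine (hmemH _).2 ⟨mul_mem (mul_mem (M.mem_cHull_of_mem X D hk) hha) (inv_mem (M.mem_cHull_of_mem X D hk)), ?_⟩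
    have hs := M.sq_mem X D (inv_mem hk)
    have h1 : k⁻¹ * u * k = k⁻¹ * k⁻¹ * u := by
      have := M.conj_u X D (inv_mem hk)
      rwa [inv_inv] at this
    have h2 : Commute h (k⁻¹ * u * k) := h1 ▸ (X.el_comm (mem_cHull.1 hha).2 hs).symm.mul_right hhu
    have h3 := h2.map (MulAut.conj k).toMonoidHom
    simp only [MulEquiv.coe_toMonoidHom, MulAut.conj_apply] at h3
    rwa [show k * (k⁻¹ * u * k) * k⁻¹ = u by group] at h3
  obtain ⟨T', hT'⟩ : ∃ T', T' = T.map (MulAut.conj g).toMonoidHom := ⟨_, rfl⟩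
  have hmemT' : ∀ t, t ∈ T' ↔ g⁻¹ * t * g ∈ T := fun t => by
    rw [hT', Subgroup.mem_map]
    constructor
    · rintro ⟨s, hs, rfl⟩
      simpa [mul_assoc] using hs
    · exact fun h => ⟨_, h, by simp [mul_assoc]⟩
  have hT'H : T' ≤ H := fun t ht => by
    have := hgH _ (hTH ((hmemT' t).1 ht)) g hg
    rwa [show g * (g⁻¹ * t * g) * g⁻¹ = t by group] at this
  have hT'n : ∀ h ∈ H, ∀ t ∈ T', h * t * h⁻¹ ∈ T' := fun h hh t ht => by
    refine (hmemT' _).2 ?_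
    have h1 := hgH h hh g⁻¹ (inv_mem hg)
    rw [inv_inv] at h1
    have h2 := hTn _ h1 _ ((hmemT' t).1 ht)
    rwa [show g⁻¹ * h * g * (g⁻¹ * t * g) * (g⁻¹ * h * g)⁻¹ = g⁻¹ * (h * t * h⁻¹) * g by group] at h2
  have hsq : ∀ t ∈ T, t * t ∈ Q := fun t ht => by
    rcases (hT t).1 ht with h | h
    · exact mul_mem h h
    · have := mul_mem h h
      rwa [mul_assoc, ← mul_assoc u t u, show u * t * u = t by
        have hc1 := D.commute_u X h
        have : Commute t u := by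
          have := hc1.mul_left (Commute.refl u).inv_left
          rwa [mul_inv_cancel_right] at this
        rw [← this.eq, mul_assoc, huu, mul_one]] at this
  have hTp : IsPGroup 2 T := fun t => by
    obtain ⟨n, hn⟩ := D.isPGroup X ⟨_, hsq t t.2⟩
    refine ⟨n + 1, Subtype.ext ?_⟩
    rw [SubmonoidClass.coe_pow, pow_succ', pow_mul, pow_two]
    exact congrArg Subtype.val hn
  have hSp : IsPGroup 2 ↥(T ⊔ T') := hTp.to_sup_of_normal_left' (hT' ▸ hTp.map _) fun t ht =>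
    Subgroup.mem_normalizer_fintype fun s hs => hTn t (hT'H ht) s hs
  have hle := M.le_extend X D hc hT hSp
    (fun k hk => (hmemH k).1 ((sup_le hTH hT'H) hk)) le_sup_left
    (fun h hh hhu k hk => by
      have hsub : T ⊔ T' ≤ (T ⊔ T').comap (MulAut.conj h).toMonoidHom := sup_le
        (fun s hs => Subgroup.mem_sup_left (hTn h ((hmemH h).2 ⟨hh, hhu⟩) s hs))
        (fun s hs => Subgroup.mem_sup_right (hT'n h ((hmemH h).2 ⟨hh, hhu⟩) s hs))
      exact hsub hk)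
  exact hle (Subgroup.mem_sup_right ((hmemT' _).2 (by rwa [show g⁻¹ * (g * x * g⁻¹) * g = x by group])))

/-- `W` centralises `Q`. -/
theorem commute_QW (hc : IsCube Z Ω) {q g : G} (hq : q ∈ Q) (hg : g ∈ W) : Commute q g := by
  have huu := mul_self_of_orderOf_two D.invol
  have hwu := commute_of_mem_lgen D.w_lgen
  obtain ⟨hwa, -, hwc⟩ := mem_cPair.1 D.w_pair
  obtain ⟨T, hT⟩ := exists_extend huu fun x hx => D.commute_u X (Q := Q) hx
  obtain ⟨B, hB⟩ := exists_extend (R := el Z a) huu fun x hx => D.commute_u X (D.el_le hx)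
  have huB : u ∈ B := (hB u).2 (Or.inr (by rw [huu]; exact one_mem _))
  have helB : el Z a ≤ B := fun e he => (hB e).2 (Or.inl he)
  have hBQ : ∀ x ∈ B, ∀ r ∈ Q, Commute x r := fun x hx r hr => by
    rcases (hB x).1 hx with h | h
    · exact X.el_comm (D.comm_el r hr) h
    · have := (X.el_comm (D.comm_el r hr) h).mul_left (D.commute_u X hr).symm.inv_left
      rwa [mul_inv_cancel_right] at this
  have hBW : ∀ k ∈ W, ∀ x ∈ B, k * x * k⁻¹ ∈ B := fun k hk x hx => by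
    have hka := M.fix k (M.le_P X D hk)
    rcases (hB x).1 hx with h | h
    · exact helB (D.conj_el X hka h)
    · have h1 : k * (x * u) * k⁻¹ * (k * u * k⁻¹)⁻¹ ∈ B :=
        mul_mem (helB (D.conj_el X hka h)) (inv_mem (by
          rw [M.conj_u X D hk]
          exact mul_mem (helB (M.sq_mem X D hk)) huB))
      rwa [show k * (x * u) * k⁻¹ * (k * u * k⁻¹)⁻¹ = k * x * k⁻¹ by group] at h1
  have hTp : IsPGroup 2 T := fun t => by
    have h2 : (t : G) * t ∈ Q := by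
      rcases (hT _).1 t.2 with h | h
      · exact mul_mem h h
      · have h1 := mul_mem h h
        have htu : Commute (t : G) u := by
          have := (D.commute_u X h).mul_left (Commute.refl u).inv_left
          rwa [mul_inv_cancel_right] at this
        rwa [htu.symm.mul_mul_mul_comm, huu, mul_one] at h1
    obtain ⟨n, hn⟩ := D.isPGroup X ⟨_, h2⟩
    refine ⟨n + 1, Subtype.ext ?_⟩
    rw [SubmonoidClass.coe_pow, pow_succ', pow_mul, pow_two]
    exact congrArg Subtype.val hn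
  have hBT : B ≤ T := fun x hx => (hT x).2 (((hB x).1 hx).imp (fun h => D.el_le h) fun h => D.el_le h)
  have hBne : B ≠ T := fun h => by
    have hQB : Q ≤ el Z a := fun r hr => by
      rcases (hB r).1 (h ▸ (hT r).2 (Or.inl hr)) with h1 | h1
      · exact h1
      · refine (X.hyp.notMem_lgen u D.invol D.outside ?_).elim
        have h2 := mul_mem (inv_mem ((D.mem_Q r).1 hr).1) ((D.mem_Q _).1 (D.el_le h1)).1
        rwa [inv_mul_cancel_left] at h2
    have h1 := Nat.le_of_dvd Nat.card_pos (Subgroup.card_dvd_of_le hQB)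
    rw [D.card_Q] at h1
    exact absurd h1 (not_le.2 (lt_self_pow₀ (by have := D.four_le X; omega) (by omega)))
  obtain ⟨c, hcT, hcB, hcW⟩ := Cube.exists_fixed_coset (T := W) (M.two.to_le fun k hk => M.le_P X D hk) hTp hBT
    hBne (fun k hk x hx => M.norm_extend X D hc hT hk hx) hBW
  obtain ⟨r, hr, hrB, hrW⟩ : ∃ r ∈ Q, r ∉ el Z a ∧ ∀ k ∈ W, r⁻¹ * (k * r * k⁻¹) ∈ B := by
    rcases (hT c).1 hcT with h | h
    · exact ⟨c, h, fun e => hcB (helB e), hcW⟩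
    · refine ⟨c * u, h, fun e => hcB ((hB c).2 (Or.inr e)), fun k hk => ?_⟩
      rw [show (c * u)⁻¹ * (k * (c * u) * k⁻¹) = u⁻¹ * (c⁻¹ * (k * c * k⁻¹)) * (k * u * k⁻¹) by group]
      exact mul_mem (mul_mem (inv_mem huB) (hcW k hk)) (hBW k hk u huB)
  obtain ⟨A, hA⟩ : ∃ A : Subgroup G, ∀ q, q ∈ A ↔ q ∈ Q ∧ ∀ k ∈ W, q⁻¹ * (k * q * k⁻¹) ∈ B := by
    refine ⟨{ carrier := {q | q ∈ Q ∧ ∀ k ∈ W, q⁻¹ * (k * q * k⁻¹) ∈ B}
              one_mem' := ⟨one_mem Q, fun g _ => ?one⟩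
              mul_mem' := ?mul
              inv_mem' := ?inv }, fun g => Iff.rfl⟩
    case one => simp [one_mem]
    case mul =>
      rintro q q' ⟨hq, h⟩ ⟨hq', h'⟩
      refine ⟨mul_mem hq hq', fun k hk => ?_⟩
      rw [show (q * q')⁻¹ * (k * (q * q') * k⁻¹) = q'⁻¹ * (q⁻¹ * (k * q * k⁻¹)) * (k * q' * k⁻¹) by group,
        ((hBQ _ (h k hk) _ (inv_mem hq')).symm).eq, mul_assoc]
      exact mul_mem (h k hk) (h' k hk)
    case inv =>
      rintro q ⟨hq, h⟩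
      refine ⟨inv_mem hq, fun k hk => ?_⟩
      rw [show q⁻¹⁻¹ * (k * q⁻¹ * k⁻¹) = q * (q⁻¹ * (k * q * k⁻¹))⁻¹ * q⁻¹ by group,
        ((hBQ _ (inv_mem (h k hk)) _ hq).symm).eq, mul_inv_cancel_right]
      exact inv_mem (h k hk)
  have hjB : ∀ j, j • a = a → Commute j u → ∀ x ∈ B, j * x * j⁻¹ ∈ B := fun j hja hju x hx => by
    rcases (hB x).1 hx with h | h
    · exact helB (D.conj_el X hja h)
    · refine (hB _).2 (Or.inr ?_)
      have h1 := D.conj_el X hja h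
      rwa [show j * (x * u) * j⁻¹ = j * x * j⁻¹ * (j * u * j⁻¹) by group, hju.eq, mul_inv_cancel_right] at h1
  have hAQ : A = Q := D.eq_top_of_invariant X (fun q hq => ((hA q).1 hq).1)
    (fun e he => (hA e).2 ⟨D.el_le he,
      fun k hk => helB (mul_mem (inv_mem he) (D.conj_el X (M.fix k (M.le_P X D hk)) he))⟩)
    (fun j hj q hq => (hA _).2 ⟨D.conj_mem X (D.J_fix X hj) (D.J_commute_u X hj) ((hA q).1 hq).1, fun k hk => by
      have hk' : j⁻¹ * k * j⁻¹⁻¹ ∈ W := M.conj_mem X D (inv_smul_eq_iff.2 (D.J_fix X hj).symm)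
        (D.J_commute_u X hj).inv_left (D.J_commute_w X hj).inv_left hk
      rw [show (j * q * j⁻¹)⁻¹ * (k * (j * q * j⁻¹) * k⁻¹) =
        j * (q⁻¹ * ((j⁻¹ * k * j⁻¹⁻¹) * q * (j⁻¹ * k * j⁻¹⁻¹)⁻¹)) * j⁻¹ by group]
      exact hjB j (D.J_fix X hj) (D.J_commute_u X hj) _ (((hA q).1 hq).2 _ hk')⟩)
    (fun q hq => (hA _).2 ⟨D.conj_mem X hwa hwu ((hA q).1 hq).1, fun k hk => by
      have hkw : Commute k w := M.comm_w k (M.le_P X D hk)
      rw [show (w * q * w⁻¹)⁻¹ * (k * (w * q * w⁻¹) * k⁻¹) = w * q⁻¹ * w⁻¹ * ((k * w) * q * (k * w)⁻¹) by group,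
        hkw.eq, show w * q⁻¹ * w⁻¹ * ((w * k) * q * (w * k)⁻¹) = w * (q⁻¹ * (k * q * k⁻¹)) * w⁻¹ by group]
      exact hjB w hwa hwu _ (((hA q).1 hq).2 k hk)⟩)
    ((hA r).2 ⟨hr, hrW⟩) hrB
  obtain ⟨C, hC⟩ : ∃ C : Subgroup G, C = Q ⊓ Subgroup.centralizer (W : Set G) := ⟨_, rfl⟩
  have hmemC : ∀ x, x ∈ C ↔ x ∈ Q ∧ ∀ k ∈ W, Commute x k := fun x => by
    rw [hC, Subgroup.mem_inf, Subgroup.mem_centralizer_iff]
    exact and_congr_right fun _ => ⟨fun h k hk => (h k hk).symm, fun h k hk => (h k hk).eq.symm⟩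
  -- the commutators with `w` are centralised
  have hcomm : ∀ x ∈ Q, x⁻¹ * (w * x * w⁻¹) ∈ C := fun x hx => by
    refine (hmemC _).2 ⟨mul_mem (inv_mem hx) (D.conj_mem X hwa hwu hx), fun k hk => ?_⟩
    obtain ⟨v, hv⟩ : ∃ v, v = x⁻¹ * (k * x * k⁻¹) := ⟨_, rfl⟩
    have hvB : v ∈ B := hv ▸ ((hA x).1 (hAQ.symm ▸ hx)).2 k hk
    have hkw : Commute k w := M.comm_w k (M.le_P X D hk)
    have hwv : w * v * w⁻¹ = v := by
      rcases (hB v).1 hvB with h | h
      · rw [← (X.el_comm hwc h).eq, mul_inv_cancel_right]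
      · have h1 : Commute v w := by
          have := (X.el_comm hwc h).mul_left hwu.symm.inv_left
          rwa [mul_inv_cancel_right] at this
        rw [← h1.eq, mul_inv_cancel_right]
    have h1 : k * x * k⁻¹ = x * v := by rw [hv, mul_inv_cancel_left]
    refine (mul_inv_eq_iff_eq_mul.1 ?_).symm
    calc k * (x⁻¹ * (w * x * w⁻¹)) * k⁻¹ = (k * x * k⁻¹)⁻¹ * ((k * w) * x * (k * w)⁻¹) := by group
      _ = (k * x * k⁻¹)⁻¹ * (w * (k * x * k⁻¹) * w⁻¹) := by rw [hkw.eq]; group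
      _ = v⁻¹ * (x⁻¹ * (w * x * w⁻¹) * (w * v * w⁻¹)) := by rw [h1]; group
      _ = _ := by
        rw [hwv, ← (hBQ v hvB _ (mul_mem (inv_mem hx) (D.conj_mem X hwa hwu hx))).eq, inv_mul_cancel_left]
  obtain ⟨r', hr', hr'e⟩ : ∃ r' ∈ C, r' ∉ el Z a :=
    ⟨_, hcomm r hr, fun h => hrB (D.W_free w D.w_lgen D.w_pair (D.w_ne X) r hr h)⟩
  have hCQ : C = Q := D.eq_top_of_invariant X (fun x hx => ((hmemC x).1 hx).1)
    (fun e he => (hmemC e).2 ⟨D.el_le he, fun k hk => M.el_comm_mem X D (M.le_P X D hk) he⟩)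
    (fun j hj x hx => (hmemC _).2 ⟨D.conj_mem X (D.J_fix X hj) (D.J_commute_u X hj) ((hmemC x).1 hx).1,
      fun k hk => by
        have hk' : j⁻¹ * k * j⁻¹⁻¹ ∈ W := M.conj_mem X D (inv_smul_eq_iff.2 (D.J_fix X hj).symm)
          (D.J_commute_u X hj).inv_left (D.J_commute_w X hj).inv_left hk
        have h0 := (((hmemC x).1 hx).2 _ hk').conj j
        rwa [show j * (j⁻¹ * k * j⁻¹⁻¹) * j⁻¹ = k by group] at h0⟩)
    (fun x hx => (hmemC _).2 ⟨D.conj_mem X hwa hwu ((hmemC x).1 hx).1, fun k hk => by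
      have hkw : Commute k w := M.comm_w k (M.le_P X D hk)
      exact (hkw.symm.mul_left (((hmemC x).1 hx).2 k hk)).mul_left hkw.symm.inv_left⟩)
    hr' hr'e
  exact ((hmemC q).1 (hCQ.symm ▸ hq)).2 g hg

end Member

end Cfsg.Agent.Invol.Aschbacher.Last
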